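import Mathlib
import Groth.Agent.Lib.Helper8.Disp

set_option autoImplicit false

universe u v w w'

namespace Groth.Agent.H8.Disp

open Dieu

section General

variable {A₂ A₁ A B : Type u} [CommRing A₂] [CommRing A₁] [CommRing A] [CommRing B]

/-- The transitivity map `B ⊗_τ (A ⊗_ρ P) → B ⊗_{τρ} P`. -/
noncomputable def trans (ρ : A₁ →+* A) (τ : A →+* B) (P : Type v) [AddCommGroup P] [Module A₁ P] :
    BC τ (BC ρ P) →ₗ[B] BC (τ.comp ρ) P :=
  BC.lift τ (BC.push ρ τ)

theorem trans_tmul (ρ : A₁ →+* A) (τ : A →+* B) {P : Type v} [AddCommGroup P] [Module A₁ P]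
    (c : B) (Y : BC ρ P) :
    trans ρ τ P (BC.tmul τ c Y) = c • BC.push ρ τ Y := by
  rw [trans, BC.lift_tmul]

theorem BC.map_comp {P : Type v} {P' : Type w} {P'' : Type w'} [AddCommGroup P] [Module A P] [AddCommGroup P'] [Module A P']
    [AddCommGroup P''] [Module A P''] (τ : A →+* B) (f : P →ₗ[A] P') (h : P' →ₗ[A] P'') (z : BC τ P) :
    BC.map τ (h ∘ₗ f) z = BC.map τ h (BC.map τ f z) := by
  induction z using BC.induction_on τ with
  | zero => simp only [map_zero]
  | tmul b x => simp only [BC.map_tmul, LinearMap.comp_apply]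
  | add z₁ z₂ h₁ h₂ => simp only [map_add, h₁, h₂]

/-- functoriality of `push`. -/
theorem push_push {P : Type v} [AddCommGroup P] [Module A₂ P] (π : A₂ →+* A₁) (ρ : A₁ →+* A) (τ : A →+* B)
    {θ₁ : A₂ →+* A} (e₁ : ρ.comp π = θ₁) {θ₃ : A₁ →+* B} (e₃ : τ.comp ρ = θ₃)
    {θ₂ : A₂ →+* B} (e₂ : τ.comp θ₁ = θ₂) (e₄ : θ₃.comp π = θ₂) (G : BC π P) :
    BC.castHom e₂ (BC.push θ₁ τ (BC.castHom e₁ (BC.push π ρ G))) = BC.castHom e₄ (BC.push π θ₃ G) := by
  induction G using BC.induction_on π with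
  | zero => simp only [map_zero]
  | tmul b x =>
    simp only [BC.push_tmul, BC.castHom_tmul]
    subst e₃
    rfl
  | add z₁ z₂ h₁ h₂ => simp only [map_add, h₁, h₂]

/-- associativity/naturality of the transitivity maps. -/
theorem trans_assoc {P₁ : Type v} [AddCommGroup P₁] [Module A₁ P₁] {P₂ : Type w} [AddCommGroup P₂] [Module A₂ P₂]
    (π : A₂ →+* A₁) (ρ : A₁ →+* A) (τ : A →+* B)
    {θ₁ : A₂ →+* A} (e₁ : ρ.comp π = θ₁) {θ₃ : A₁ →+* B} (e₃ : τ.comp ρ = θ₃)
    {θ₂ : A₂ →+* B} (e₂ : τ.comp θ₁ = θ₂) (e₄ : θ₃.comp π = θ₂)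
    (g : P₁ →ₗ[A₁] BC π P₂) (Z : BC τ (BC ρ P₁)) :
    BC.castHom e₂ (trans θ₁ τ P₂ (BC.map τ ((BC.castHom e₁) ∘ₗ (trans π ρ P₂) ∘ₗ (BC.map ρ g)) Z)) =
      BC.castHom e₄ (trans π θ₃ P₂ (BC.map θ₃ g (BC.castHom e₃ (trans ρ τ P₁ Z)))) := by
  induction Z using BC.induction_on τ with
  | zero => simp only [map_zero]
  | tmul c Y =>
    induction Y using BC.induction_on ρ with
    | zero => simp only [BC.tmul_zero, map_zero]
    | tmul u x =>
      simp only [BC.map_tmul, LinearMap.comp_apply, trans_tmul, BC.push_tmul, BC.smul_tmul, BC.castHom_tmul,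
        map_smul, map_smulₛₗ]
      rw [push_push π ρ τ e₁ e₃ e₂ e₄]
      simp only [smul_smul]
    | add z₁ z₂ h₁ h₂ => simp only [BC.tmul_add, map_add, h₁, h₂]
  | add z₁ z₂ h₁ h₂ => simp only [map_add, h₁, h₂]

end General

end Groth.Agent.H8.Disp

namespace Groth.Agent.H8.Disp

open Dieu

section VSharp

variable {p : ℕ} [Fact p.Prime] {R : Type u} [CommRing R]
variable {P : Type v} [AddCommGroup P] [Module (WittVector p R) P]

/-- the Frobenius ring endomorphism of `W(R)`. -/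
noncomputable abbrev frob (p : ℕ) [Fact p.Prime] (R : Type u) [CommRing R] : WittVector p R →+* WittVector p R :=
  WittVector.frobenius

theorem castHom_trans_map_castHom {τ τ' ρ θ : WittVector p R →+* WittVector p R} (e₀ : τ = τ')
    (e : τ'.comp ρ = θ) (e' : τ.comp ρ = θ) {P' : Type w} [AddCommGroup P'] [Module (WittVector p R) P']
    (g : P →ₗ[WittVector p R] BC ρ P') (Z : BC τ P) :
    BC.castHom e (trans ρ τ' P' (BC.map τ' g (BC.castHom e₀ Z))) =
      BC.castHom e' (trans ρ τ P' (BC.map τ g Z)) := by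
  subst e₀
  rfl

/-- The composition law for the iterates of `V^#`. -/
theorem vSharpPow_add (Vs : P →ₗ[WittVector p R] BC (frob p R) P) (a b : ℕ) :
    ∀ (n : ℕ) (_ : n = a + b + 1) (e : ((frob p R) ^ (a + 1)).comp ((frob p R) ^ (b + 1)) = (frob p R) ^ (n + 1))
      (x : P), vSharpPow Vs n x =
        BC.castHom e (trans ((frob p R) ^ (b + 1)) ((frob p R) ^ (a + 1)) P
          (BC.map ((frob p R) ^ (a + 1)) (vSharpPow Vs b) (vSharpPow Vs a x))) := by
  induction a with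
  | zero =>
    intro n hn e x
    obtain rfl : n = b + 1 := by omega
    rw [vSharpPow_succ_apply, vSharpPow_zero_apply]
    rw [castHom_trans_map_castHom (pow_one (frob p R)).symm e
      (comp_pow_eq_pow_succ (frob p R) (b + 1))]
    rfl
  | succ a ih =>
    intro n hn e x
    obtain rfl : n = (a + b + 1) + 1 := by omega
    have e₂ : ((frob p R) ^ (a + 1)).comp ((frob p R) ^ (b + 1)) = (frob p R) ^ (a + b + 1 + 1) := by
      have : a + b + 1 + 1 = (a + 1) + (b + 1) := by omega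
      rw [this, pow_add (frob p R) (a + 1) (b + 1)]
      rfl
    have hlin : vSharpPow Vs (a + b + 1) =
        (BC.castHom e₂) ∘ₗ (trans ((frob p R) ^ (b + 1)) ((frob p R) ^ (a + 1)) P) ∘ₗ
          (BC.map ((frob p R) ^ (a + 1)) (vSharpPow Vs b)) ∘ₗ (vSharpPow Vs a) := by
      ext y
      exact ih (a + b + 1) rfl e₂ y
    rw [vSharpPow_succ_apply, vSharpPow_succ_apply Vs a, hlin]
    rw [← LinearMap.comp_assoc, ← LinearMap.comp_assoc, BC.map_comp]
    rw [LinearMap.comp_assoc]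
    exact trans_assoc ((frob p R) ^ (b + 1)) ((frob p R) ^ (a + 1)) (frob p R) e₂
      (comp_pow_eq_pow_succ (frob p R) (a + 1)) (comp_pow_eq_pow_succ (frob p R) (a + b + 1 + 1)) e
      (vSharpPow Vs b) _

end VSharp

end Groth.Agent.H8.Disp
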