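import Mathlib
import Groth.Agent.Lib.Helper8.Disp.Comp

set_option autoImplicit false

universe u v w w'

namespace Groth.Agent.H8.Disp

open Dieu W4c1extbt610

section General

variable {A₂ A₁ A B : Type u} [CommRing A₂] [CommRing A₁] [CommRing A] [CommRing B]

theorem castHom_mem_smul_top {P : Type v} [AddCommGroup P] [Module A P] {g g' : A →+* B} (e : g = g')
    (K : Ideal B) {z : BC g P} (hz : z ∈ K • (⊤ : Submodule B (BC g P))) :
    BC.castHom e z ∈ K • (⊤ : Submodule B (BC g' P)) := by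
  subst e
  exact hz

theorem push_mem_smul_top {P : Type v} [AddCommGroup P] [Module A₁ P] (ρ : A₁ →+* A) (τ : A →+* B)
    (K : Ideal A) {Y : BC ρ P} (hY : Y ∈ K • (⊤ : Submodule A (BC ρ P))) :
    BC.push ρ τ Y ∈ (K.map τ) • (⊤ : Submodule B (BC (τ.comp ρ) P)) := by
  refine Submodule.smul_induction_on hY ?_ ?_
  · intro k hk y _
    rw [map_smulₛₗ]
    exact Submodule.smul_mem_smul (Ideal.mem_map_of_mem τ hk) Submodule.mem_top
  · intro y₁ y₂ h₁ h₂
    rw [map_add]
    exact Submodule.add_mem _ h₁ h₂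

theorem trans_map_mem_smul_top {P₁ : Type v} [AddCommGroup P₁] [Module A₁ P₁] {P₂ : Type w} [AddCommGroup P₂]
    [Module A₂ P₂] (π : A₂ →+* A₁) (ρ : A₁ →+* A) (K' : Ideal A₁) (g : P₁ →ₗ[A₁] BC π P₂)
    (hg : ∀ x, g x ∈ K' • (⊤ : Submodule A₁ (BC π P₂))) (Z : BC ρ P₁) :
    trans π ρ P₂ (BC.map ρ g Z) ∈ (K'.map ρ) • (⊤ : Submodule A (BC (ρ.comp π) P₂)) := by
  induction Z using BC.induction_on ρ with
  | zero => simp only [map_zero, Submodule.zero_mem]
  | tmul u x =>
    rw [BC.map_tmul, trans_tmul]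
    exact Submodule.smul_mem _ _ (push_mem_smul_top π ρ K' (hg x))
  | add z₁ z₂ h₁ h₂ =>
    rw [map_add, map_add]
    exact Submodule.add_mem _ h₁ h₂

theorem trans_map_mem_mul_smul_top {P₁ : Type v} [AddCommGroup P₁] [Module A₁ P₁] {P₂ : Type w} [AddCommGroup P₂]
    [Module A₂ P₂] (π : A₂ →+* A₁) (ρ : A₁ →+* A) (K : Ideal A) (K' : Ideal A₁) (g : P₁ →ₗ[A₁] BC π P₂)
    (hg : ∀ x, g x ∈ K' • (⊤ : Submodule A₁ (BC π P₂))) {Z : BC ρ P₁}
    (hZ : Z ∈ K • (⊤ : Submodule A (BC ρ P₁))) :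
    trans π ρ P₂ (BC.map ρ g Z) ∈ (K * K'.map ρ) • (⊤ : Submodule A (BC (ρ.comp π) P₂)) := by
  refine Submodule.smul_induction_on hZ ?_ ?_
  · intro k hk y _
    rw [map_smul, map_smul, Submodule.mul_smul]
    exact Submodule.smul_mem_smul hk (trans_map_mem_smul_top π ρ K' g hg y)
  · intro y₁ y₂ h₁ h₂
    rw [map_add, map_add]
    exact Submodule.add_mem _ h₁ h₂

end General

section Witt

variable {p : ℕ} [Fact p.Prime] {R : Type u} [CommRing R]

theorem frob_pow_succ_apply (n : ℕ) (w : WittVector p R) :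
    ((frob p R) ^ (n + 1)) w = ((frob p R) ^ n) (WittVector.frobenius w) := by
  rw [pow_succ]
  rfl

theorem frob_pow_natCast (n : ℕ) : ((frob p R) ^ n) (p : WittVector p R) = (p : WittVector p R) :=
  map_natCast _ p

theorem map_frob_pow_le (n : ℕ) :
    (IV p R ⊔ Ideal.span {(p : WittVector p R)}).map ((frob p R) ^ (n + 1)) ≤
      Ideal.span {(p : WittVector p R)} := by
  rw [Ideal.map_sup]
  apply sup_le
  · rw [IV, Ideal.map_span, Ideal.span_le]
    rintro _ ⟨_, ⟨w, rfl⟩, rfl⟩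
    rw [frob_pow_succ_apply, WittVector.frobenius_verschiebung, map_mul, frob_pow_natCast]
    exact Ideal.mul_mem_left _ _ (Ideal.subset_span rfl)
  · rw [Ideal.map_span, Ideal.span_le]
    rintro _ ⟨_, rfl, rfl⟩
    rw [frob_pow_natCast]
    exact Ideal.subset_span rfl

/-- If `p ^ m = 0` in `R` then `p ^ m • ker (truncate j) ⊆ ker (truncate (j+1))`. -/
theorem p_pow_mul_mem_ker_truncate {m : ℕ} (hm : (p : R) ^ m = 0) (j : ℕ) {x : WittVector p R}
    (hx : x ∈ RingHom.ker (WittVector.truncate (p := p) (R := R) j)) :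
    (p : WittVector p R) ^ m * x ∈ RingHom.ker (WittVector.truncate (p := p) (R := R) (j + 1)) := by
  rw [WittVector.mem_ker_truncate] at hx ⊢
  have h0 : ((p : WittVector p R) ^ m).coeff 0 = 0 := by
    have : WittVector.constantCoeff ((p : WittVector p R) ^ m) = (p : R) ^ m := by
      rw [map_pow, map_natCast]
    rw [← hm, ← this]
    rfl
  obtain ⟨y, hy⟩ : ∃ y, (p : WittVector p R) ^ m = WittVector.verschiebung y := by
    refine ⟨((p : WittVector p R) ^ m).shift 1, ?_⟩
    have := WittVector.eq_iterate_verschiebung (x := (p : WittVector p R) ^ m) (n := 1) (by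
      intro i hi
      obtain rfl : i = 0 := by omega
      exact h0)
    simpa using this
  have hx' := WittVector.eq_iterate_verschiebung hx
  have hfix : (⇑(WittVector.frobenius : WittVector p R →+* WittVector p R))^[j] ((p : WittVector p R) ^ m) =
      (p : WittVector p R) ^ m :=
    Function.iterate_fixed (by rw [map_pow, map_natCast]) j
  rw [hx', mul_comm, WittVector.iterate_verschiebung_mul_left, hfix, hy, mul_comm,
    ← WittVector.verschiebung_mul_frobenius, ← Function.iterate_succ_apply]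
  intro i hi
  exact WittVector.iterate_verschiebung_coeff_eq_zero _ hi

theorem p_pow_mem_ker_truncate {m : ℕ} (hm : (p : R) ^ m = 0) (n : ℕ) :
    (p : WittVector p R) ^ (m * n) ∈ RingHom.ker (WittVector.truncate (p := p) (R := R) n) := by
  induction n with
  | zero =>
    rw [WittVector.mem_ker_truncate]
    intro i hi
    omega
  | succ n ih =>
    rw [Nat.mul_succ, pow_add, mul_comm]
    exact p_pow_mul_mem_ker_truncate hm n ih

variable {P : Type v} [AddCommGroup P] [Module (WittVector p R) P]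

theorem frob_pow_comp (a b : ℕ) :
    ((frob p R) ^ (a + 1)).comp ((frob p R) ^ (b + 1)) = (frob p R) ^ (a + b + 1 + 1) := by
  have : a + b + 1 + 1 = (a + 1) + (b + 1) := by omega
  rw [this, pow_add (frob p R) (a + 1) (b + 1)]
  rfl

theorem exists_vSharpPow_mem_p_pow (Vs : P →ₗ[WittVector p R] BC (frob p R) P) (hnil : IsVNilpotent Vs)
    (k : ℕ) : ∃ N : ℕ, ∀ x : P, vSharpPow Vs N x ∈
      (Ideal.span {(p : WittVector p R)} ^ k) •
        (⊤ : Submodule (WittVector p R) (BC ((frob p R) ^ (N + 1)) P)) := by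
  induction k with
  | zero =>
    refine ⟨0, fun x => ?_⟩
    rw [pow_zero, Ideal.one_eq_top, Submodule.top_smul]
    exact Submodule.mem_top
  | succ k ih =>
    obtain ⟨N, hN⟩ := ih
    obtain ⟨n₀, hn₀⟩ := hnil
    refine ⟨N + n₀ + 1, fun x => ?_⟩
    rw [vSharpPow_add Vs N n₀ (N + n₀ + 1) rfl (frob_pow_comp N n₀) x]
    apply castHom_mem_smul_top
    have := trans_map_mem_mul_smul_top ((frob p R) ^ (n₀ + 1)) ((frob p R) ^ (N + 1))
      (Ideal.span {(p : WittVector p R)} ^ k) _ (vSharpPow Vs n₀) hn₀ (hN x)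
    refine Submodule.smul_mono_left ?_ this
    rw [pow_succ]
    exact Ideal.mul_mono_right (map_frob_pow_le N)

theorem exists_vSharpPow_mem_ker_truncate (hp : IsNilpotent (p : R))
    (Vs : P →ₗ[WittVector p R] BC (frob p R) P) (hnil : IsVNilpotent Vs) (n : ℕ) :
    ∃ N : ℕ, ∀ x : P, vSharpPow Vs N x ∈
      (RingHom.ker (WittVector.truncate (p := p) (R := R) n)) •
        (⊤ : Submodule (WittVector p R) (BC ((frob p R) ^ (N + 1)) P)) := by
  obtain ⟨m, hm⟩ := hp
  obtain ⟨N, hN⟩ := exists_vSharpPow_mem_p_pow Vs hnil (m * n)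
  refine ⟨N, fun x => Submodule.smul_mono_left ?_ (hN x)⟩
  rw [Ideal.span_singleton_pow, Ideal.span_le, Set.singleton_subset_iff]
  exact p_pow_mem_ker_truncate hm n

end Witt

end Groth.Agent.H8.Disp
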