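import Mathlib
import Groth.Agent.Lib.Helper8.Disp.Nilp

set_option autoImplicit false

universe u v w

namespace Groth.Agent.H8.Disp

open Dieu W4c1extbt610

section Witt

variable {p : ℕ} [Fact p.Prime] {R : Type u} [CommRing R]

/-- kernel of truncation. -/
noncomputable abbrev IT (p : ℕ) [Fact p.Prime] (R : Type u) [CommRing R] (n : ℕ) : Ideal (WittVector p R) :=
  RingHom.ker (WittVector.truncate (p := p) (R := R) n)

theorem mem_IT_iff (n : ℕ) (x : WittVector p R) : x ∈ IT p R n ↔ ∀ i < n, x.coeff i = 0 :=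
  WittVector.mem_ker_truncate n x

theorem iterate_verschiebung_natCast_mul (j : ℕ) (c : ℕ) (z : WittVector p R) :
    (⇑(WittVector.verschiebung : WittVector p R →+ WittVector p R))^[j] ((c : WittVector p R) * z) =
      (c : WittVector p R) * (⇑(WittVector.verschiebung : WittVector p R →+ WittVector p R))^[j] z := by
  induction j generalizing z with
  | zero => rfl
  | succ j ih =>
    rw [Function.iterate_succ_apply, Function.iterate_succ_apply, ← ih]
    congr 1
    rw [← nsmul_eq_mul, ← nsmul_eq_mul, map_nsmul]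

theorem iterate_frobenius_mul_natCast (j : ℕ) (c : ℕ) (z : WittVector p R) :
    (⇑(WittVector.frobenius : WittVector p R →+* WittVector p R))^[j] (z * (c : WittVector p R)) =
      (⇑(WittVector.frobenius : WittVector p R →+* WittVector p R))^[j] z * (c : WittVector p R) := by
  induction j generalizing z with
  | zero => rfl
  | succ j ih =>
    rw [Function.iterate_succ_apply, Function.iterate_succ_apply, map_mul, map_natCast, ih]

/-- `V a * x ∈ p • I_j` for `x ∈ I_j`, `j ≥ 1`. -/
theorem verschiebung_mul_mem (j : ℕ) (a : WittVector p R) {x : WittVector p R} (hx : x ∈ IT p R (j + 1)) :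
    WittVector.verschiebung a * x ∈ Ideal.span {(p : WittVector p R)} * IT p R (j + 1) := by
  rw [mem_IT_iff] at hx
  have hx' := WittVector.eq_iterate_verschiebung hx
  rw [hx', mul_comm (WittVector.verschiebung a), WittVector.iterate_verschiebung_mul_left, Function.iterate_succ_apply (⇑WittVector.frobenius),
    WittVector.frobenius_verschiebung, iterate_frobenius_mul_natCast, ← mul_assoc, mul_comm _ (p : WittVector p R),
    iterate_verschiebung_natCast_mul]
  refine Ideal.mul_mem_mul (Ideal.subset_span rfl) ?_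
  rw [mem_IT_iff]
  intro i hi
  exact WittVector.iterate_verschiebung_coeff_eq_zero _ hi

theorem IT_one_eq : IT p R 1 = IV p R := by
  ext x
  rw [mem_IT_iff, mem_IV_iff]
  constructor
  · intro h
    refine ⟨x.shift 1, ?_⟩
    have := WittVector.eq_iterate_verschiebung (x := x) (n := 1) h
    simpa using this.symm
  · rintro ⟨w, rfl⟩ i hi
    obtain rfl : i = 0 := by omega
    exact WittVector.verschiebung_coeff_zero w

theorem IT_one_mul_le (j : ℕ) : IT p R 1 * IT p R (j + 1) ≤ Ideal.span {(p : WittVector p R)} * IT p R (j + 1) := by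
  rw [Ideal.mul_le]
  intro a ha x hx
  rw [IT_one_eq, mem_IV_iff] at ha
  obtain ⟨w, rfl⟩ := ha
  exact verschiebung_mul_mem j w hx

theorem IT_one_pow_mul_le (j k : ℕ) :
    IT p R 1 ^ k * IT p R (j + 1) ≤ Ideal.span {(p : WittVector p R)} ^ k * IT p R (j + 1) := by
  induction k with
  | zero => simp
  | succ k ih =>
    rw [pow_succ, mul_assoc, pow_succ, mul_assoc]
    calc IT p R 1 ^ k * (IT p R 1 * IT p R (j + 1))
        ≤ IT p R 1 ^ k * (Ideal.span {(p : WittVector p R)} * IT p R (j + 1)) :=
          Ideal.mul_mono_right (IT_one_mul_le j)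
      _ = Ideal.span {(p : WittVector p R)} * (IT p R 1 ^ k * IT p R (j + 1)) := by
          rw [← mul_assoc, ← mul_assoc, mul_comm (IT p R 1 ^ k)]
      _ ≤ Ideal.span {(p : WittVector p R)} * (Ideal.span {(p : WittVector p R)} ^ k * IT p R (j + 1)) :=
          Ideal.mul_mono_right ih
      _ = _ := by rw [← mul_assoc, ← mul_assoc, mul_comm (Ideal.span {(p : WittVector p R)})]

theorem IT_one_pow_mul_le_succ {m : ℕ} (hm : (p : R) ^ m = 0) (j : ℕ) :
    IT p R 1 ^ m * IT p R (j + 1) ≤ IT p R (j + 1 + 1) := by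
  refine (IT_one_pow_mul_le j m).trans ?_
  rw [Ideal.span_singleton_pow, Ideal.mul_le]
  intro a ha x hx
  obtain ⟨c, rfl⟩ := Ideal.mem_span_singleton'.mp ha
  rw [mul_assoc]
  exact Ideal.mul_mem_left _ _ (p_pow_mul_mem_ker_truncate hm (j + 1) hx)

theorem IT_one_pow_le {m : ℕ} (hm : (p : R) ^ m = 0) (n : ℕ) : IT p R 1 ^ (m * n + 1) ≤ IT p R (n + 1) := by
  induction n with
  | zero => simp
  | succ n ih =>
    have : m * (n + 1) + 1 = m + (m * n + 1) := by ring
    rw [this, pow_add]
    exact (Ideal.mul_mono_right ih).trans (IT_one_pow_mul_le_succ hm n)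

theorem coeff_eq_of_sub_mem_IT {n : ℕ} {x y : WittVector p R} (h : x - y ∈ IT p R n) {i : ℕ} (hi : i < n) :
    x.coeff i = y.coeff i := by
  have h' : WittVector.truncate (p := p) (R := R) n x = WittVector.truncate n y := by
    rw [← sub_eq_zero, ← map_sub]
    exact h
  have := congrArg (fun t => t.coeff ⟨i, hi⟩) h'
  simpa only [WittVector.coeff_truncate] using this

theorem truncate_eq_of_coeff_eq {n : ℕ} {x y : WittVector p R} (h : ∀ i < n, x.coeff i = y.coeff i) :
    WittVector.truncate (p := p) (R := R) n x = WittVector.truncate n y := by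
  ext i
  rw [WittVector.coeff_truncate, WittVector.coeff_truncate]
  exact h i i.2

theorem eq_of_truncate_eq {x y : WittVector p R}
    (h : ∀ n, WittVector.truncate (p := p) (R := R) n x = WittVector.truncate n y) : x = y := by
  ext i
  have := congrArg (fun t => t.coeff ⟨i, Nat.lt_succ_self i⟩) (h (i + 1))
  simpa only [WittVector.coeff_truncate] using this

/-- geometric series: `1 - a` is a unit if the powers of `a` tend to zero for the `V`-filtration. -/
theorem isUnit_one_sub_of_pow_mem (a : WittVector p R) (N : ℕ → ℕ)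
    (hN : ∀ n k, N n ≤ k → a ^ k ∈ IT p R n) : IsUnit (1 - a) := by
  classical
  let M : ℕ → ℕ := fun n => ∑ j ∈ Finset.range (n + 1), N j
  have hM : ∀ n j, j ≤ n → N j ≤ M n := fun n j hj =>
    Finset.single_le_sum (f := N) (fun _ _ => Nat.zero_le _) (Finset.mem_range.mpr (Nat.lt_succ_of_le hj))
  let S : ℕ → WittVector p R := fun K => ∑ k ∈ Finset.range K, a ^ k
  have hS : ∀ n K₀ K, N n ≤ K₀ → K₀ ≤ K → S K - S K₀ ∈ IT p R n := by
    intro n K₀ K h0 h1
    have : S K - S K₀ = ∑ k ∈ Finset.Ico K₀ K, a ^ k := (Finset.sum_Ico_eq_sub _ h1).symm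
    rw [this]
    refine Ideal.sum_mem _ fun k hk => hN n k (h0.trans (Finset.mem_Ico.mp hk).1)
  let b : WittVector p R := WittVector.mk p (fun i => (S (M (i + 1))).coeff i)
  have hb : ∀ n K, M n ≤ K → ∀ i < n, b.coeff i = (S K).coeff i := by
    intro n K hK i hi
    change (S (M (i + 1))).coeff i = (S K).coeff i
    have h1 : N (i + 1) ≤ M (i + 1) := hM (i + 1) (i + 1) le_rfl
    have h2 : N (i + 1) ≤ K := (hM n (i + 1) hi).trans hK
    have e1 := coeff_eq_of_sub_mem_IT (hS (i + 1) (N (i + 1)) (M (i + 1)) le_rfl h1) (Nat.lt_succ_self i)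
    have e2 := coeff_eq_of_sub_mem_IT (hS (i + 1) (N (i + 1)) K le_rfl h2) (Nat.lt_succ_self i)
    rw [e1, e2]
  have key : (1 - a) * b = 1 := by
    apply eq_of_truncate_eq
    intro n
    rw [map_mul, truncate_eq_of_coeff_eq (hb n (M n) le_rfl), ← map_mul, mul_comm, geom_sum_mul_neg, map_sub,
      map_one]
    have : WittVector.truncate (p := p) (R := R) n (a ^ M n) = 0 := hN n (M n) (hM n n le_rfl)
    rw [this, sub_zero]
  exact IsUnit.of_mul_eq_one _ key

/-- `1 + x` is a unit for `x ∈ I_R` when `p` is nilpotent in `R`. -/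
theorem isUnit_one_sub_of_mem_IV (hp : IsNilpotent (p : R)) {a : WittVector p R} (ha : a ∈ IV p R) :
    IsUnit (1 - a) := by
  obtain ⟨m, hm⟩ := hp
  rw [← IT_one_eq] at ha
  refine isUnit_one_sub_of_pow_mem a (fun n => m * n + 1) ?_
  intro n k hk
  rcases n with _ | n
  · rw [mem_IT_iff]
    intro i hi
    omega
  · have h1 : a ^ (m * n + 1) ∈ IT p R (n + 1) := IT_one_pow_le hm n (Ideal.pow_mem_pow ha _)
    have h2 : m * n + 1 ≤ k := le_trans (by nlinarith) hk
    obtain ⟨d, rfl⟩ := Nat.exists_eq_add_of_le h2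
    rw [pow_add]
    exact Ideal.mul_mem_right _ _ h1

theorem IV_le_jacobson (hp : IsNilpotent (p : R)) : IV p R ≤ Ideal.jacobson (⊥ : Ideal (WittVector p R)) := by
  intro x hx
  rw [Ideal.mem_jacobson_bot]
  intro y
  have : x * y + 1 = 1 - (-(x * y)) := by ring
  rw [this]
  exact isUnit_one_sub_of_mem_IV hp (Ideal.neg_mem_iff _ |>.mpr (Ideal.mul_mem_right _ _ hx))

theorem IV_le_of_isMaximal (hp : IsNilpotent (p : R)) (m : Ideal (WittVector p R)) [hm : m.IsMaximal] :
    IV p R ≤ m := by
  refine (IV_le_jacobson hp).trans ?_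
  exact sInf_le ⟨bot_le, hm⟩

theorem natCast_p_mem_of_isMaximal (hp : IsNilpotent (p : R)) (m : Ideal (WittVector p R)) [hm : m.IsMaximal] :
    (p : WittVector p R) ∈ m := by
  have hp' := hp
  obtain ⟨k, hk⟩ := hp
  have h0 : WittVector.constantCoeff ((p : WittVector p R) ^ k) = 0 := by
    rw [map_pow, map_natCast, hk]
  obtain ⟨y, hy⟩ : ∃ y, WittVector.verschiebung y = (p : WittVector p R) ^ k := by
    refine ⟨((p : WittVector p R) ^ k).shift 1, ?_⟩
    have := WittVector.eq_iterate_verschiebung (x := (p : WittVector p R) ^ k) (n := 1) (by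
      intro i hi
      obtain rfl : i = 0 := by omega
      exact h0)
    simpa using this.symm
  have : (p : WittVector p R) ^ k ∈ m := by
    rw [← hy]
    exact IV_le_of_isMaximal hp' m (verschiebung_mem_IV p R y)
  exact hm.isPrime.mem_of_pow_mem k this

end Witt

end Groth.Agent.H8.Disp
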