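import Mathlib
import Groth.Prelude.Def_Dieu

/-! Coordinates on `BC g P` for a free module `P`. -/

set_option autoImplicit false

universe u v w

namespace Groth.Agent.H8.Disp

open Dieu

section

variable {A : Type u} {B : Type v} [CommRing A] [CommRing B] (g : A →+* B)
variable {P : Type w} [AddCommGroup P] [Module A P]
variable {ι : Type*} [Fintype ι] [DecidableEq ι] (e : Module.Basis ι A P)

/-- The `k`-th coordinate on `BC g P` with respect to the basis `1 ⊗ e_k`. -/
noncomputable def coordFun (k : ι) : BC g P →ₗ[B] B :=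
  BC.lift g ((semilinearOfRingHom g).comp (e.coord k))

theorem coordFun_tmul (k : ι) (b : B) (x : P) :
    coordFun g e k (BC.tmul g b x) = b * g (e.repr x k) := by
  rw [coordFun, BC.lift_tmul]
  rfl

theorem coordFun_tmul_basis (k j : ι) (b : B) :
    coordFun g e k (BC.tmul g b (e j)) = if j = k then b else 0 := by
  rw [coordFun_tmul, e.repr_self, Finsupp.single_apply]
  split_ifs <;> simp

theorem sum_coordFun_smul (z : BC g P) :
    z = ∑ k, coordFun g e k z • BC.tmul g 1 (e k) := by
  induction z using BC.induction_on g with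
  | zero => simp
  | tmul b x =>
    have h1 : BC.tmul g b x = b • BC.ι g P (∑ k, e.repr x k • e k) := by
      rw [e.sum_repr, BC.ι_apply, ← BC.tmul_eq_smul_tmul_one]
    conv_lhs => rw [h1, map_sum, Finset.smul_sum]
    refine Finset.sum_congr rfl fun k _ => ?_
    rw [map_smulₛₗ, BC.ι_apply, smul_smul, coordFun_tmul]
  | add z₁ z₂ h₁ h₂ =>
    conv_lhs => rw [h₁, h₂]
    rw [← Finset.sum_add_distrib]
    refine Finset.sum_congr rfl fun k _ => ?_
    rw [map_add, add_smul]

theorem coordFun_sum_smul (c : ι → B) (k : ι) :
    coordFun g e k (∑ j, c j • BC.tmul g 1 (e j)) = c k := by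
  rw [map_sum]
  simp only [map_smul, coordFun_tmul_basis, smul_eq_mul, mul_ite, mul_one, mul_zero]
  rw [Finset.sum_ite_eq' Finset.univ k c]
  simp

theorem mem_smul_top_iff (K : Ideal B) (z : BC g P) :
    z ∈ K • (⊤ : Submodule B (BC g P)) ↔ ∀ k, coordFun g e k z ∈ K := by
  constructor
  · intro h k
    refine Submodule.smul_induction_on h ?_ ?_
    · intro a ha y _
      rw [map_smul, smul_eq_mul]
      exact K.mul_mem_right _ ha
    · intro y y' hy hy'
      rw [map_add]
      exact K.add_mem hy hy'
  · intro h
    rw [sum_coordFun_smul g e z]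
    exact Submodule.sum_mem _ fun k _ => Submodule.smul_mem_smul (h k) Submodule.mem_top

theorem coordFun_castHom {g' : A →+* B} (h : g = g') (k : ι) (z : BC g P) :
    coordFun g' e k (BC.castHom h z) = coordFun g e k z := by
  subst h
  rfl

end

end Groth.Agent.H8.Disp
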