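import Mathlib
import Groth.Agent.Lib.Helper8.Disp.Units

set_option autoImplicit false

universe u v w

namespace Groth.Agent.H8.Disp

open Dieu W4c1extbt610

section Witt

variable {p : ℕ} [Fact p.Prime] {R : Type u} [CommRing R]

theorem sub_mem_IV_of_coeff_zero_eq {x y : WittVector p R} (h : x.coeff 0 = y.coeff 0) : x - y ∈ IV p R := by
  rw [← IT_one_eq, mem_IT_iff]
  intro i hi
  obtain rfl : i = 0 := by omega
  have : WittVector.constantCoeff (x - y) = 0 := by
    rw [map_sub]
    exact sub_eq_zero.mpr h
  exact this

theorem exists_coeff_zero_frobenius (x : WittVector p R) :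
    ∃ c : R, (WittVector.frobenius x).coeff 0 = x.coeff 0 ^ p + (p : R) * c := by
  refine ⟨MvPolynomial.aeval x.coeff (WittVector.frobeniusPolyAux p 0), ?_⟩
  rw [WittVector.coeff_frobenius, WittVector.frobeniusPoly]
  simp only [map_add, map_mul, map_pow, MvPolynomial.aeval_X, map_natCast]

theorem frobenius_mem_iff (hp : IsNilpotent (p : R)) (m : Ideal (WittVector p R)) [hm : m.IsMaximal]
    (x : WittVector p R) : WittVector.frobenius x ∈ m ↔ x ∈ m := by
  have hIV := IV_le_of_isMaximal hp m
  have hpm := natCast_p_mem_of_isMaximal hp m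
  obtain ⟨c, hc⟩ := exists_coeff_zero_frobenius x
  set r := x.coeff 0 with hr
  have h1 : x - WittVector.teichmuller p r ∈ m :=
    hIV (sub_mem_IV_of_coeff_zero_eq (by rw [WittVector.teichmuller_coeff_zero]))
  have h2 : WittVector.frobenius x -
      (WittVector.teichmuller p r ^ p + (p : WittVector p R) * WittVector.teichmuller p c) ∈ m := by
    apply hIV
    apply sub_mem_IV_of_coeff_zero_eq
    rw [hc]
    change _ = (WittVector.constantCoeff : WittVector p R →+* R)
      (WittVector.teichmuller p r ^ p + (p : WittVector p R) * WittVector.teichmuller p c)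
    rw [map_add, map_pow, map_mul, map_natCast]
    change _ = (WittVector.teichmuller p r).coeff 0 ^ p + (p : R) * (WittVector.teichmuller p c).coeff 0
    rw [WittVector.teichmuller_coeff_zero, WittVector.teichmuller_coeff_zero]
  have h3 : x ∈ m ↔ WittVector.teichmuller p r ∈ m := by
    constructor
    · intro hx
      have := m.sub_mem hx h1
      rwa [sub_sub_cancel] at this
    · intro ht
      have := m.add_mem h1 ht
      rwa [sub_add_cancel] at this
  have h4 : WittVector.frobenius x ∈ m ↔
      WittVector.teichmuller p r ^ p + (p : WittVector p R) * WittVector.teichmuller p c ∈ m := by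
    constructor
    · intro hx
      have := m.sub_mem hx h2
      rwa [sub_sub_cancel] at this
    · intro ht
      have := m.add_mem h2 ht
      rwa [sub_add_cancel] at this
  rw [h3, h4]
  constructor
  · intro h
    have : WittVector.teichmuller p r ^ p ∈ m := by
      have := m.sub_mem h (m.mul_mem_right (WittVector.teichmuller p c) hpm)
      rwa [add_sub_cancel_right] at this
    exact hm.isPrime.mem_of_pow_mem p this
  · intro h
    exact m.add_mem (Ideal.pow_mem_of_mem _ h p (Fact.out : p.Prime).pos) (m.mul_mem_right _ hpm)

theorem comap_frob_eq (hp : IsNilpotent (p : R)) (m : Ideal (WittVector p R)) [hm : m.IsMaximal] :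
    m.comap (frob p R) = m := by
  ext x
  rw [Ideal.mem_comap]
  exact frobenius_mem_iff hp m x

end Witt

end Groth.Agent.H8.Disp
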