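import Mathlib
import Groth.Agent.Lib.Helper8.Disp.FrobPrime

set_option autoImplicit false

universe u v w

namespace Groth.Agent.H8.Disp

open Dieu W4c1extbt610 TensorProduct

section General

variable {A B : Type u} [CommRing A] [CommRing B]

/-- `BC g P` is the base change of `P` along `g`: finiteness, projectivity and ranks. -/
theorem BC_facts (g : A →+* B) (P : Type v) [AddCommGroup P] [Module A P] [Module.Finite A P]
    [Module.Projective A P] :
    Module.Finite B (BC g P) ∧ Module.Projective B (BC g P) ∧
      ∀ q : PrimeSpectrum B, Module.rankAtStalk (R := B) (BC g P) q =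
        Module.rankAtStalk (R := A) P (q.comap g) := by
  letI : Algebra A B := g.toAlgebra
  letI : Module A (BC g P) := Module.compHom (BC g P) g
  haveI : IsScalarTower A B (BC g P) := IsScalarTower.of_algebraMap_smul fun _ _ => rfl
  let f : P →ₗ[A] BC g P :=
    { toFun := fun x => BC.tmul g 1 x
      map_add' := fun x y => BC.tmul_add g 1 x y
      map_smul' := fun a x => (BC.ι g P).map_smulₛₗ a x }
  have hf : IsBaseChange B f := by
    apply IsBaseChange.of_lift_unique
    intro Q _ _ _ _ φ
    letI : AddCommGroup Q := Module.addCommMonoidToAddCommGroup B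
    let φ' : P →ₛₗ[g] Q :=
      { toFun := φ
        map_add' := φ.map_add
        map_smul' := fun a x => by
          rw [φ.map_smul]
          exact (algebraMap_smul B a (φ x)).symm }
    refine ⟨BC.lift g φ', ?_, ?_⟩
    · ext x
      change BC.lift g φ' (BC.tmul g 1 x) = φ x
      rw [BC.lift_tmul, one_smul]
      rfl
    · intro ψ hψ
      apply BC.ext
      intro x
      rw [BC.lift_tmul, one_smul]
      have := LinearMap.congr_fun hψ x
      exact this
  haveI : Module.Finite B (BC g P) := Module.Finite.equiv hf.equiv
  haveI : Module.Projective B (BC g P) := Module.Projective.of_equiv hf.equiv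
  refine ⟨inferInstance, inferInstance, fun q => ?_⟩
  exact Module.rankAtStalk_isBaseChange hf q

end General

end Groth.Agent.H8.Disp
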