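import Mathlib
import Groth.Agent.Lib.Helper8.Disp.Nilp

set_option autoImplicit false

universe u v w

namespace Groth.Agent.H8.Disp

open Dieu W4c1extbt610 TensorProduct

section General

variable {A B C : Type u} [CommRing A] [CommRing B] [CommRing C]
variable {P : Type v} [AddCommGroup P] [Module A P]

/-- `ψ` as an `A`-linear map `Res φ → Res (ψ ∘ φ)`. -/
noncomputable def resMap (φ : A →+* B) (ψ : B →+* C) : Res φ →ₗ[A] Res (ψ.comp φ) where
  toFun t := Res.mk (ψ.comp φ) (ψ t.val)
  map_add' s t := by apply Res.ext; simp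
  map_smul' a t := by apply Res.ext; simp

theorem resMap_surjective (φ : A →+* B) (ψ : B →+* C) (hψ : Function.Surjective ψ) :
    Function.Surjective (resMap φ ψ) := by
  intro t
  obtain ⟨b, hb⟩ := hψ t.val
  exact ⟨Res.mk φ b, Res.ext _ hb⟩

/-- the quotient map `B ⊗_φ P → C ⊗_{ψφ} (P/Q)`. -/
noncomputable def quotMapGen (φ : A →+* B) (ψ : B →+* C) (Q : Submodule A P) :
    BC φ P →ₛₗ[ψ] BC (ψ.comp φ) (P ⧸ Q) :=
  (BC.push φ ψ).comp (BC.map φ Q.mkQ)

theorem quotMapGen_tmul (φ : A →+* B) (ψ : B →+* C) (Q : Submodule A P) (b : B) (x : P) :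
    quotMapGen φ ψ Q (BC.tmul φ b x) = BC.tmul (ψ.comp φ) (ψ b) (Q.mkQ x) := by
  rw [quotMapGen, LinearMap.comp_apply, BC.map_tmul, BC.push_tmul]

theorem quotMapGen_eq_map (φ : A →+* B) (ψ : B →+* C) (Q : Submodule A P) (z : BC φ P) :
    quotMapGen φ ψ Q z = (TensorProduct.map (resMap φ ψ) Q.mkQ) (show Res φ ⊗[A] P from z) := by
  induction z using BC.induction_on φ with
  | zero => simp only [map_zero]; rfl
  | tmul b x =>
    rw [quotMapGen_tmul]
    rfl
  | add z₁ z₂ h₁ h₂ =>
    rw [map_add, h₁, h₂]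
    exact (map_add (TensorProduct.map (resMap φ ψ) Q.mkQ) _ _).symm

/-- induction principle for the kernel of `quotMapGen`. -/
theorem quotMapGen_ker_induction (φ : A →+* B) (ψ : B →+* C) (hψ : Function.Surjective ψ) (Q : Submodule A P)
    {motive : BC φ P → Prop} (h0 : motive 0) (hadd : ∀ z₁ z₂, motive z₁ → motive z₂ → motive (z₁ + z₂))
    (hQ : ∀ (b : B) (y : P), y ∈ Q → motive (BC.tmul φ b y))
    (hK : ∀ (b : B), ψ b = 0 → ∀ x : P, motive (BC.tmul φ b x))
    (z : BC φ P) (hz : quotMapGen φ ψ Q z = 0) : motive z := by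
  rw [quotMapGen_eq_map] at hz
  have hmem : (show Res φ ⊗[A] P from z) ∈ LinearMap.ker (TensorProduct.map (resMap φ ψ) Q.mkQ) := hz
  rw [TensorProduct.map_ker (LinearMap.exact_subtype_ker_map (resMap φ ψ)) (resMap_surjective φ ψ hψ)
    (LinearMap.exact_subtype_mkQ Q) (Submodule.mkQ_surjective Q), Submodule.mem_sup] at hmem
  obtain ⟨a, ⟨a', ha'⟩, b, ⟨b', hb'⟩, hab⟩ := hmem
  have hA : ∀ a' : Res φ ⊗[A] Q, motive (show BC φ P from LinearMap.lTensor (Res φ) Q.subtype a') := by
    intro a'
    induction a' using TensorProduct.induction_on with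
    | zero =>
      have : LinearMap.lTensor (Res φ) Q.subtype (0 : Res φ ⊗[A] Q) = 0 := map_zero _
      rw [this]
      exact h0
    | tmul t y => exact hQ t.val y y.2
    | add x₁ x₂ h₁ h₂ =>
      have : LinearMap.lTensor (Res φ) Q.subtype (x₁ + x₂) =
          LinearMap.lTensor (Res φ) Q.subtype x₁ + LinearMap.lTensor (Res φ) Q.subtype x₂ := map_add _ _ _
      rw [this]
      exact hadd _ _ h₁ h₂
  have hB : ∀ b' : (LinearMap.ker (resMap φ ψ)) ⊗[A] P,
      motive (show BC φ P from LinearMap.rTensor P (LinearMap.ker (resMap φ ψ)).subtype b') := by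
    intro b'
    induction b' using TensorProduct.induction_on with
    | zero =>
      have : LinearMap.rTensor P (LinearMap.ker (resMap φ ψ)).subtype
          (0 : (LinearMap.ker (resMap φ ψ)) ⊗[A] P) = 0 := map_zero _
      rw [this]
      exact h0
    | tmul t x =>
      have ht : ψ (t : Res φ).val = 0 := by
        have := t.2
        rw [LinearMap.mem_ker] at this
        exact this
      exact hK _ ht x
    | add x₁ x₂ h₁ h₂ =>
      have : LinearMap.rTensor P (LinearMap.ker (resMap φ ψ)).subtype (x₁ + x₂) =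
          LinearMap.rTensor P (LinearMap.ker (resMap φ ψ)).subtype x₁ +
            LinearMap.rTensor P (LinearMap.ker (resMap φ ψ)).subtype x₂ := map_add _ _ _
      rw [this]
      exact hadd _ _ h₁ h₂
  have : z = (show BC φ P from a) + (show BC φ P from b) := hab.symm
  rw [this, ← ha', ← hb']
  exact hadd _ _ (hA a') (hB b')

end General

end Groth.Agent.H8.Disp
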