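import Mathlib
import Groth.Agent.Lib.Helper8.Disp.KerInd

set_option autoImplicit false

universe u v w

namespace Groth.Agent.H8.Disp

open Dieu W4c1extbt610 TensorProduct

section General

variable {A B : Type u} [CommRing A] [CommRing B]
variable {P : Type v} [AddCommGroup P] [Module A P]

/-- `x ↦ 1 ⊗ (1 ⊗ x)`, semilinear for `φ ∘ τA = τB ∘ φ`. -/
noncomputable def kappa (φ : A →+* B) (τA : A →+* A) (τB : B →+* B) (h : ∀ a, φ (τA a) = τB (φ a)) :
    P →ₛₗ[φ.comp τA] BC τB (BC φ P) where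
  toFun x := BC.tmul τB 1 (BC.tmul φ 1 x)
  map_add' x y := by rw [BC.tmul_add, BC.tmul_add]
  map_smul' a x := by
    rw [← BC.tmul_apply_eq φ a x, BC.tmul_eq_smul_tmul_one φ (φ a) x, ← BC.tmul_apply_eq τB,
      BC.tmul_eq_smul_tmul_one τB]
    congr 1
    exact (h a).symm

/-- `u ⊗ x ↦ φ u ⊗ (1 ⊗ x)`, `φ`-semilinear. -/
noncomputable def twistBC (φ : A →+* B) (τA : A →+* A) (τB : B →+* B) (h : ∀ a, φ (τA a) = τB (φ a)) :
    BC τA P →ₛₗ[φ] BC τB (BC φ P) :=
  (BC.lift (φ.comp τA) (kappa φ τA τB h)).comp (BC.push τA φ)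

theorem twistBC_tmul (φ : A →+* B) (τA : A →+* A) (τB : B →+* B) (h : ∀ a, φ (τA a) = τB (φ a))
    (u : A) (x : P) :
    twistBC φ τA τB h (BC.tmul τA u x) = BC.tmul τB (φ u) (BC.tmul φ 1 x) := by
  rw [twistBC, LinearMap.comp_apply, BC.push_tmul, BC.lift_tmul]
  change φ u • BC.tmul τB 1 (BC.tmul φ 1 x) = _
  rw [BC.smul_tmul, mul_one]

theorem twistBC_castHom (φ : A →+* B) {τA τA' : A →+* A} {τB τB' : B →+* B} (eA : τA = τA') (eB : τB = τB')
    (h : ∀ a, φ (τA a) = τB (φ a)) (h' : ∀ a, φ (τA' a) = τB' (φ a)) (z : BC τA P) :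
    BC.castHom eB (twistBC φ τA τB h z) = twistBC φ τA' τB' h' (BC.castHom eA z) := by
  subst eA eB
  rfl

theorem twistBC_mem_smul_top (φ : A →+* B) (τA : A →+* A) (τB : B →+* B) (h : ∀ a, φ (τA a) = τB (φ a))
    (K : Ideal A) {z : BC τA P} (hz : z ∈ K • (⊤ : Submodule A (BC τA P))) :
    twistBC φ τA τB h z ∈ (K.map φ) • (⊤ : Submodule B (BC τB (BC φ P))) := by
  refine Submodule.smul_induction_on hz ?_ ?_
  · intro k hk y _
    rw [map_smulₛₗ]
    exact Submodule.smul_mem_smul (Ideal.mem_map_of_mem φ hk) Submodule.mem_top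
  · intro y₁ y₂ h₁ h₂
    rw [map_add]
    exact Submodule.add_mem _ h₁ h₂

/-- compatibility of `twistBC` with `push`. -/
theorem push_twistBC (φ : A →+* B) (τA ρA : A →+* A) (τB ρB : B →+* B) (h : ∀ a, φ (τA a) = τB (φ a))
    (hρ : ∀ a, φ (ρA a) = ρB (φ a)) {θA : A →+* A} {θB : B →+* B} (eA : ρA.comp τA = θA)
    (eB : ρB.comp τB = θB) (hθ : ∀ a, φ (θA a) = θB (φ a)) (G : BC τA P) :
    BC.castHom eB (BC.push τB ρB (twistBC φ τA τB h G)) =
      twistBC φ θA θB hθ (BC.castHom eA (BC.push τA ρA G)) := by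
  induction G using BC.induction_on τA with
  | zero => simp only [map_zero]
  | tmul u x =>
    rw [twistBC_tmul, BC.push_tmul, BC.push_tmul, BC.castHom_tmul, BC.castHom_tmul, twistBC_tmul, hρ]
  | add z₁ z₂ h₁ h₂ => simp only [map_add, h₁, h₂]

/-- the base change of a map `Vs : P → BC τA P`. -/
noncomputable def vsBC (φ : A →+* B) (τA : A →+* A) (τB : B →+* B) (h : ∀ a, φ (τA a) = τB (φ a))
    (Vs : P →ₗ[A] BC τA P) : BC φ P →ₗ[B] BC τB (BC φ P) :=
  BC.lift φ ((twistBC φ τA τB h).comp Vs)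

theorem vsBC_tmul (φ : A →+* B) (τA : A →+* A) (τB : B →+* B) (h : ∀ a, φ (τA a) = τB (φ a))
    (Vs : P →ₗ[A] BC τA P) (w : B) (x : P) :
    vsBC φ τA τB h Vs (BC.tmul φ w x) = w • twistBC φ τA τB h (Vs x) := by
  rw [vsBC, BC.lift_tmul]
  rfl

end General

end Groth.Agent.H8.Disp

namespace Groth.Agent.H8.Disp

open Dieu W4c1extbt610 TensorProduct

section Witt

variable {p : ℕ} [Fact p.Prime] {S R : Type u} [CommRing S] [CommRing R]
variable {P : Type v} [AddCommGroup P] [Module (WittVector p S) P]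

/-- `W(f)`. -/
noncomputable abbrev wmap (p : ℕ) [Fact p.Prime] {S R : Type u} [CommRing S] [CommRing R] (f : S →+* R) :
    WittVector p S →+* WittVector p R := WittVector.map f

theorem wmap_frob (f : S →+* R) (a : WittVector p S) : wmap p f (frob p S a) = frob p R (wmap p f a) :=
  (WittVector.frobenius_isPoly p).map f a

theorem wmap_frob_pow (f : S →+* R) (n : ℕ) (a : WittVector p S) :
    wmap p f (((frob p S) ^ n) a) = ((frob p R) ^ n) (wmap p f a) := by
  induction n generalizing a with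
  | zero => rfl
  | succ n ih =>
    rw [pow_succ (frob p S), pow_succ (frob p R)]
    change wmap p f (((frob p S) ^ n) (frob p S a)) = ((frob p R) ^ n) (frob p R (wmap p f a))
    rw [ih, wmap_frob]

theorem exists_verschiebung_eq {x : WittVector p R} (h0 : WittVector.constantCoeff x = 0) :
    ∃ y, WittVector.verschiebung y = x := by
  refine ⟨x.shift 1, ?_⟩
  have := WittVector.eq_iterate_verschiebung (x := x) (n := 1) (by
    intro i hi
    obtain rfl : i = 0 := by omega
    exact h0)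
  simpa using this.symm

theorem constantCoeff_surjective : Function.Surjective (WittVector.constantCoeff : WittVector p R →+* R) := by
  intro r
  exact ⟨WittVector.teichmuller p r, WittVector.teichmuller_coeff_zero p r⟩

theorem isVSharp_vsBC (f : S →+* R) (D : Display3n p S P) (Vs : P →ₗ[WittVector p S] BC (frob p S) P)
    (hVs : IsVSharp D Vs) (DR : Display3n p R (BC (wmap p f) P)) (hDR : IsDispBaseChange f D DR) :
    IsVSharp DR (vsBC (wmap p f) (frob p S) (frob p R) (wmap_frob f) Vs) where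
  app_smul_F w z := by
    induction z using BC.induction_on (wmap p f) with
    | zero => simp only [map_zero, smul_zero, BC.tmul_zero]
    | tmul c x =>
      have h1 : Vs (D.F x) = (p : WittVector p S) • BC.tmul (frob p S) 1 x := by
        have := hVs.app_smul_F 1 x
        rwa [one_smul] at this
      rw [hDR.F_tmul, BC.smul_tmul, vsBC_tmul, h1, map_smulₛₗ, map_natCast, twistBC_tmul, map_one,
        BC.tmul_eq_smul_tmul_one (wmap p f) c x, ← BC.tmul_mul_apply,
        BC.tmul_eq_smul_tmul_one (frob p R) (w * _), smul_comm]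
    | add z₁ z₂ h₁ h₂ =>
      rw [map_add, smul_add, map_add, h₁, h₂, BC.tmul_add, smul_add]
  app_smul_Vinv w y := by
    have key : ∀ z : BC (wmap p f) P, quotMapGen (wmap p f) WittVector.constantCoeff D.Q z = 0 →
        ∃ hz : z ∈ DR.Q, ∀ w, vsBC (wmap p f) (frob p S) (frob p R) (wmap_frob f) Vs (w • DR.Vinv ⟨z, hz⟩) =
          BC.tmul (frob p R) w z := by
      intro z hz
      refine quotMapGen_ker_induction (wmap p f) WittVector.constantCoeff constantCoeff_surjective D.Q
        (motive := fun z => ∃ hz : z ∈ DR.Q, ∀ w,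
          vsBC (wmap p f) (frob p S) (frob p R) (wmap_frob f) Vs (w • DR.Vinv ⟨z, hz⟩) =
            BC.tmul (frob p R) w z) ?_ ?_ ?_ ?_ z hz
      · refine ⟨DR.Q.zero_mem, fun w => ?_⟩
        have : (⟨0, DR.Q.zero_mem⟩ : DR.Q) = 0 := rfl
        rw [this, map_zero, smul_zero, map_zero, BC.tmul_zero]
      · rintro z₁ z₂ ⟨h₁, H₁⟩ ⟨h₂, H₂⟩
        refine ⟨DR.Q.add_mem h₁ h₂, fun w => ?_⟩
        have : (⟨z₁ + z₂, DR.Q.add_mem h₁ h₂⟩ : DR.Q) = ⟨z₁, h₁⟩ + ⟨z₂, h₂⟩ := rfl
        rw [this, map_add, smul_add, map_add, H₁, H₂, BC.tmul_add]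
      · intro b y hy
        have hmem : BC.tmul (wmap p f) b y ∈ DR.Q := by
          rw [hDR.Q_eq, LinearMap.mem_ker, bcQuotMap_tmul]
          have : D.Q.mkQ y = 0 := (Submodule.Quotient.mk_eq_zero D.Q).mpr hy
          rw [this, BC.tmul_zero]
        refine ⟨hmem, fun w => ?_⟩
        have h1 : Vs (D.Vinv ⟨y, hy⟩) = BC.tmul (frob p S) 1 y := by
          have := hVs.app_smul_Vinv 1 ⟨y, hy⟩
          rwa [one_smul] at this
        rw [hDR.Vinv_tmul b ⟨y, hy⟩ hmem, BC.smul_tmul, vsBC_tmul, h1, twistBC_tmul, map_one,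
          BC.tmul_eq_smul_tmul_one (wmap p f) b y, ← BC.tmul_mul_apply,
          BC.tmul_eq_smul_tmul_one (frob p R) (w * _)]
      · intro b hb x
        obtain ⟨b', rfl⟩ := exists_verschiebung_eq hb
        have hmem : BC.tmul (wmap p f) (WittVector.verschiebung b') x ∈ DR.Q := by
          rw [hDR.Q_eq, LinearMap.mem_ker, bcQuotMap_tmul, hb, BC.zero_tmul]
        refine ⟨hmem, fun w => ?_⟩
        have h1 : Vs (D.F x) = (p : WittVector p S) • BC.tmul (frob p S) 1 x := by
          have := hVs.app_smul_F 1 x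
          rwa [one_smul] at this
        rw [hDR.Vinv_verschiebung_tmul b' x hmem, BC.smul_tmul, vsBC_tmul, h1, map_smulₛₗ, map_natCast,
          twistBC_tmul, map_one, BC.tmul_eq_smul_tmul_one (wmap p f) (WittVector.verschiebung b') x,
          ← BC.tmul_mul_apply, BC.tmul_eq_smul_tmul_one (frob p R) (w * _), smul_smul]
        congr 1
        change w * b' * (p : WittVector p R) = w * WittVector.frobenius (WittVector.verschiebung b')
        rw [WittVector.frobenius_verschiebung, mul_assoc]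
    have hy : quotMapGen (wmap p f) WittVector.constantCoeff D.Q (y : BC (wmap p f) P) = 0 := by
      have : (y : BC (wmap p f) P) ∈ LinearMap.ker (bcQuotMap f D.Q) := by
        rw [← hDR.Q_eq]
        exact y.2
      exact this
    obtain ⟨hz, H⟩ := key (y : BC (wmap p f) P) hy
    exact H w

theorem vSharpPow_vsBC (f : S →+* R) (Vs : P →ₗ[WittVector p S] BC (frob p S) P) (n : ℕ) :
    ∀ (w : WittVector p R) (x : P),
      vSharpPow (vsBC (wmap p f) (frob p S) (frob p R) (wmap_frob f) Vs) n (BC.tmul (wmap p f) w x) =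
        w • twistBC (wmap p f) ((frob p S) ^ (n + 1)) ((frob p R) ^ (n + 1)) (wmap_frob_pow f (n + 1))
          (vSharpPow Vs n x) := by
  induction n with
  | zero =>
    intro w x
    rw [vSharpPow_zero_apply, vSharpPow_zero_apply, vsBC_tmul, map_smul]
    congr 1
  | succ n ih =>
    intro w x
    have hZ : ∀ Z : BC (frob p S) P,
        BC.castHom (comp_pow_eq_pow_succ (frob p R) (n + 1))
          (BC.lift (frob p R) (BC.push ((frob p R) ^ (n + 1)) (frob p R))
            (BC.map (frob p R) (vSharpPow (vsBC (wmap p f) (frob p S) (frob p R) (wmap_frob f) Vs) n)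
              (twistBC (wmap p f) (frob p S) (frob p R) (wmap_frob f) Z))) =
        twistBC (wmap p f) ((frob p S) ^ (n + 1 + 1)) ((frob p R) ^ (n + 1 + 1)) (wmap_frob_pow f (n + 1 + 1))
          (BC.castHom (comp_pow_eq_pow_succ (frob p S) (n + 1))
            (BC.lift (frob p S) (BC.push ((frob p S) ^ (n + 1)) (frob p S))
              (BC.map (frob p S) (vSharpPow Vs n) Z))) := by
      intro Z
      induction Z using BC.induction_on (frob p S) with
      | zero => simp only [map_zero]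
      | tmul u y =>
        rw [twistBC_tmul, BC.map_tmul, ih, one_smul, BC.lift_tmul, map_smul, BC.map_tmul, BC.lift_tmul,
          map_smul, map_smulₛₗ]
        congr 1
        exact push_twistBC (wmap p f) ((frob p S) ^ (n + 1)) (frob p S) ((frob p R) ^ (n + 1)) (frob p R)
          (wmap_frob_pow f (n + 1)) (wmap_frob f) (comp_pow_eq_pow_succ (frob p S) (n + 1))
          (comp_pow_eq_pow_succ (frob p R) (n + 1)) (wmap_frob_pow f (n + 1 + 1)) _
      | add z₁ z₂ h₁ h₂ => simp only [map_add, h₁, h₂]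
    rw [vSharpPow_succ_apply, vSharpPow_succ_apply, vsBC_tmul, map_smul, map_smul, map_smul, hZ]

theorem map_wmap_le (f : S →+* R) :
    (IV p S ⊔ Ideal.span {(p : WittVector p S)}).map (wmap p f) ≤
      IV p R ⊔ Ideal.span {(p : WittVector p R)} := by
  rw [Ideal.map_sup]
  apply sup_le_sup
  · rw [IV, Ideal.map_span, Ideal.span_le]
    rintro _ ⟨_, ⟨w, rfl⟩, rfl⟩
    change WittVector.map f (WittVector.verschiebung w) ∈ _
    rw [WittVector.map_verschiebung]
    exact verschiebung_mem_IV p R _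
  · rw [Ideal.map_span, Ideal.span_le]
    rintro _ ⟨_, rfl, rfl⟩
    rw [map_natCast]
    exact Ideal.subset_span rfl

theorem isVNilpotent_vsBC (f : S →+* R) (Vs : P →ₗ[WittVector p S] BC (frob p S) P) (hnil : IsVNilpotent Vs) :
    IsVNilpotent (vsBC (wmap p f) (frob p S) (frob p R) (wmap_frob f) Vs) := by
  obtain ⟨n, hn⟩ := hnil
  refine ⟨n, fun z => ?_⟩
  induction z using BC.induction_on (wmap p f) with
  | zero => simp only [map_zero, Submodule.zero_mem]
  | tmul w x =>
    rw [vSharpPow_vsBC]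
    refine Submodule.smul_mem _ _ ?_
    exact Submodule.smul_mono_left (map_wmap_le f)
      (twistBC_mem_smul_top (wmap p f) _ _ (wmap_frob_pow f (n + 1)) _ (hn x))
  | add z₁ z₂ h₁ h₂ =>
    rw [map_add]
    exact Submodule.add_mem _ h₁ h₂

theorem isDisplay_of_isDispBaseChange (f : S →+* R) (D : Display3n p S P) (hD : IsDisplay D)
    (DR : Display3n p R (BC (wmap p f) P)) (hDR : IsDispBaseChange f D DR) : IsDisplay DR := by
  obtain ⟨Vs, h1, h2⟩ := hD
  exact ⟨_, isVSharp_vsBC f D Vs h1 DR hDR, isVNilpotent_vsBC f Vs h2⟩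

end Witt

end Groth.Agent.H8.Disp
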