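import Mathlib
import Groth.Agent.Lib.Helper8.Disp.BaseChange

/-! Semilinear base change of semilinear maps, and `V⁻¹` on `I_R · N` for a flat module `N`. -/

set_option autoImplicit false

universe u v w

namespace Groth.Agent.H8.Disp

open Dieu W4c1extbt610 TensorProduct

section General

variable {A B : Type u} [CommRing A] [CommRing B]
variable {P : Type v} [AddCommGroup P] [Module A P] {P' : Type w} [AddCommGroup P'] [Module A P']

/-- `x ↦ 1 ⊗ φ x`. -/
noncomputable def iotaSemi (g : A →+* B) (τA : A →+* A) (τB : B →+* B) (h : ∀ a, g (τA a) = τB (g a))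
    (φ : P →ₛₗ[τA] P') : P →ₛₗ[τB.comp g] BC g P' where
  toFun x := BC.tmul g 1 (φ x)
  map_add' x y := by rw [map_add, BC.tmul_add]
  map_smul' a x := by
    rw [map_smulₛₗ, ← BC.tmul_apply_eq, BC.tmul_eq_smul_tmul_one, h]
    rfl

/-- `b ⊗ x ↦ τB b ⊗ φ x`. -/
noncomputable def bcSemi (g : A →+* B) (τA : A →+* A) (τB : B →+* B) (h : ∀ a, g (τA a) = τB (g a))
    (φ : P →ₛₗ[τA] P') : BC g P →ₛₗ[τB] BC g P' :=
  (BC.lift (τB.comp g) (iotaSemi g τA τB h φ)).comp (BC.push g τB)

theorem bcSemi_tmul (g : A →+* B) (τA : A →+* A) (τB : B →+* B) (h : ∀ a, g (τA a) = τB (g a))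
    (φ : P →ₛₗ[τA] P') (b : B) (x : P) :
    bcSemi g τA τB h φ (BC.tmul g b x) = BC.tmul g (τB b) (φ x) := by
  rw [bcSemi, LinearMap.comp_apply, BC.push_tmul, BC.lift_tmul]
  change τB b • BC.tmul g 1 (φ x) = _
  rw [BC.smul_tmul, mul_one]

theorem semilinear_ext_tmul {N : Type*} [AddCommGroup N] [Module B N] (g : A →+* B) {τB : B →+* B}
    {F₁ F₂ : BC g P →ₛₗ[τB] N} (h : ∀ (b : B) (x : P), F₁ (BC.tmul g b x) = F₂ (BC.tmul g b x)) :
    F₁ = F₂ := by
  ext z
  induction z using BC.induction_on g with
  | zero => rw [map_zero, map_zero]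
  | tmul b x => exact h b x
  | add z₁ z₂ h₁ h₂ => rw [map_add, map_add, h₁, h₂]

end General

section Witt

variable {p : ℕ} [Fact p.Prime] {R : Type u} [CommRing R]

theorem exists_verschiebung_of_mem_IV (ξ : IV p R) : ∃ w, WittVector.verschiebung w = (ξ : WittVector p R) :=
  (mem_IV_iff ξ.1).mp ξ.2

/-- `V⁻¹ : I_R → W(R)`. -/
noncomputable def vinvI : (IV p R) →ₛₗ[frob p R] WittVector p R where
  toFun ξ := Classical.choose (exists_verschiebung_of_mem_IV ξ)
  map_add' ξ η := by
    apply WittVector.verschiebung_injective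
    rw [map_add, Classical.choose_spec (exists_verschiebung_of_mem_IV ξ),
      Classical.choose_spec (exists_verschiebung_of_mem_IV η),
      Classical.choose_spec (exists_verschiebung_of_mem_IV (ξ + η))]
    rfl
  map_smul' a ξ := by
    apply WittVector.verschiebung_injective
    rw [Classical.choose_spec (exists_verschiebung_of_mem_IV (a • ξ)), smul_eq_mul, mul_comm,
      WittVector.verschiebung_mul_frobenius,
      Classical.choose_spec (exists_verschiebung_of_mem_IV ξ), mul_comm]
    rfl

theorem verschiebung_vinvI (ξ : IV p R) :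
    WittVector.verschiebung (vinvI ξ) = (ξ : WittVector p R) :=
  Classical.choose_spec (exists_verschiebung_of_mem_IV ξ)

theorem vinvI_verschiebung (w : WittVector p R) (h : WittVector.verschiebung w ∈ IV p R) :
    vinvI ⟨WittVector.verschiebung w, h⟩ = w :=
  WittVector.verschiebung_injective p R (verschiebung_vinvI _)

variable {N : Type v} [AddCommGroup N] [Module (WittVector p R) N]

/-- The additive map `I_R ⊗ N → N`, `ξ ⊗ u ↦ V⁻¹ξ • F u`. -/
noncomputable def vinvTensor (FN : N →ₛₗ[frob p R] N) : (IV p R) ⊗[WittVector p R] N →+ N :=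
  TensorProduct.liftAddHom
    { toFun := fun ξ =>
        { toFun := fun u => vinvI ξ • FN u
          map_zero' := by rw [map_zero, smul_zero]
          map_add' := fun u u' => by rw [map_add, smul_add] }
      map_zero' := by
        ext u
        change vinvI (0 : IV p R) • FN u = 0
        rw [map_zero, zero_smul]
      map_add' := fun ξ η => by
        ext u
        change vinvI (ξ + η) • FN u = vinvI ξ • FN u + vinvI η • FN u
        rw [map_add, add_smul] }
    (by
      intro a ξ u
      change vinvI (a • ξ) • FN u = vinvI ξ • FN (a • u)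
      rw [map_smulₛₗ, map_smulₛₗ, smul_smul, smul_eq_mul, mul_comm])

theorem vinvTensor_tmul (FN : N →ₛₗ[frob p R] N) (ξ : IV p R) (u : N) :
    vinvTensor FN (ξ ⊗ₜ u) = vinvI ξ • FN u := rfl

theorem vinvTensor_smul (FN : N →ₛₗ[frob p R] N) (a : WittVector p R)
    (t : (IV p R) ⊗[WittVector p R] N) :
    vinvTensor FN (a • t) = frob p R a • vinvTensor FN t := by
  induction t using TensorProduct.induction_on with
  | zero => rw [smul_zero, map_zero, smul_zero]
  | tmul ξ u =>
    rw [TensorProduct.smul_tmul', vinvTensor_tmul, vinvTensor_tmul, map_smulₛₗ, smul_smul]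
    rfl
  | add t₁ t₂ h₁ h₂ => rw [smul_add, map_add, map_add, h₁, h₂, smul_add]

/-- The multiplication map `I_R ⊗ N → N`. -/
noncomputable def muI :
    (IV p R) ⊗[WittVector p R] N →ₗ[WittVector p R] N :=
  (TensorProduct.lid (WittVector p R) N).toLinearMap ∘ₗ
    LinearMap.rTensor N (Submodule.subtype (IV p R))

theorem muI_tmul (ξ : IV p R) (u : N) : muI (ξ ⊗ₜ u) = (ξ : WittVector p R) • u := by
  rw [muI, LinearMap.comp_apply, LinearMap.rTensor_tmul]
  exact TensorProduct.lid_tmul _ _

theorem muI_injective [Module.Flat (WittVector p R) N] : Function.Injective (muI : (IV p R) ⊗[WittVector p R] N →ₗ[WittVector p R] N) := by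
  rw [muI]
  exact (TensorProduct.lid (WittVector p R) N).injective.comp
    (Module.Flat.rTensor_preserves_injective_linearMap _ Subtype.val_injective)

theorem muI_mem (t : (IV p R) ⊗[WittVector p R] N) :
    muI t ∈ IV p R • (⊤ : Submodule (WittVector p R) N) := by
  induction t using TensorProduct.induction_on with
  | zero => rw [map_zero]; exact Submodule.zero_mem _
  | tmul ξ u =>
    rw [muI_tmul]
    exact Submodule.smul_mem_smul ξ.2 Submodule.mem_top
  | add t₁ t₂ h₁ h₂ => rw [map_add]; exact Submodule.add_mem _ h₁ h₂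

theorem exists_muI_eq {z : N} (hz : z ∈ IV p R • (⊤ : Submodule (WittVector p R) N)) :
    ∃ t : (IV p R) ⊗[WittVector p R] N, muI t = z := by
  refine Submodule.smul_induction_on hz ?_ ?_
  · intro ξ hξ u _
    exact ⟨(⟨ξ, hξ⟩ : IV p R) ⊗ₜ u, muI_tmul _ _⟩
  · rintro _ _ ⟨t₁, rfl⟩ ⟨t₂, rfl⟩
    exact ⟨t₁ + t₂, map_add _ _ _⟩

/-- `V⁻¹` on `I_R · N`: `V w • u ↦ w • F u`. -/
noncomputable def vinvSmul [Module.Flat (WittVector p R) N] (FN : N →ₛₗ[frob p R] N) :
    (IV p R • (⊤ : Submodule (WittVector p R) N) : Submodule (WittVector p R) N) →ₛₗ[frob p R] N where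
  toFun z := vinvTensor FN (Classical.choose (exists_muI_eq z.2))
  map_add' z z' := by
    rw [← map_add]
    congr 1
    apply muI_injective
    rw [map_add, Classical.choose_spec (exists_muI_eq z.2), Classical.choose_spec (exists_muI_eq z'.2),
      Classical.choose_spec (exists_muI_eq (z + z').2)]
    rfl
  map_smul' a z := by
    rw [← vinvTensor_smul]
    congr 1
    apply muI_injective
    rw [map_smul, Classical.choose_spec (exists_muI_eq z.2),
      Classical.choose_spec (exists_muI_eq (a • z).2)]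
    rfl

theorem vinvSmul_apply [Module.Flat (WittVector p R) N] (FN : N →ₛₗ[frob p R] N)
    (z : (IV p R • (⊤ : Submodule (WittVector p R) N) : Submodule (WittVector p R) N)) :
    vinvSmul FN z = vinvTensor FN (Classical.choose (exists_muI_eq z.2)) := rfl

theorem vinvSmul_muI [Module.Flat (WittVector p R) N] (FN : N →ₛₗ[frob p R] N)
    (t : (IV p R) ⊗[WittVector p R] N) :
    vinvSmul FN ⟨muI t, muI_mem t⟩ = vinvTensor FN t := by
  rw [vinvSmul_apply]
  congr 1
  apply muI_injective
  exact Classical.choose_spec (exists_muI_eq (muI_mem t))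

theorem vinvSmul_verschiebung_smul [Module.Flat (WittVector p R) N] (FN : N →ₛₗ[frob p R] N)
    (w : WittVector p R) (u : N)
    (h : WittVector.verschiebung w • u ∈ IV p R • (⊤ : Submodule (WittVector p R) N)) :
    vinvSmul FN ⟨WittVector.verschiebung w • u, h⟩ = w • FN u := by
  have h1 : muI ((⟨WittVector.verschiebung w, verschiebung_mem_IV p R w⟩ : IV p R) ⊗ₜ u) =
      WittVector.verschiebung w • u := muI_tmul _ _
  have h2 := vinvSmul_muI FN ((⟨WittVector.verschiebung w, verschiebung_mem_IV p R w⟩ : IV p R) ⊗ₜ u)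
  rw [vinvTensor_tmul, vinvI_verschiebung] at h2
  rw [← h2]
  exact congrArg _ (Subtype.ext h1.symm)

end Witt

end Groth.Agent.H8.Disp
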