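import Mathlib
import Groth.Agent.Lib.Helper8.Disp.BCSemi
import Groth.Agent.Lib.Helper8.Disp.BCRank

/-! Existence and uniqueness of the base change of a 3n-display. -/

set_option autoImplicit false

universe u v w

namespace Groth.Agent.H8.Disp

open Dieu W4c1extbt610 TensorProduct

section

variable {p : ℕ} [Fact p.Prime] {S R : Type u} [CommRing S] [CommRing R] (f : S →+* R)
variable {P : Type v} [AddCommGroup P] [Module (WittVector p S) P]

theorem wmap_verschiebung (s : WittVector p S) :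
    wmap p f (WittVector.verschiebung s) = WittVector.verschiebung (wmap p f s) :=
  WittVector.map_verschiebung f s

theorem wmap_mem_IV {ξ : WittVector p S} (hξ : ξ ∈ IV p S) : wmap p f ξ ∈ IV p R := by
  obtain ⟨s, rfl⟩ := (mem_IV_iff ξ).mp hξ
  rw [wmap_verschiebung]
  exact verschiebung_mem_IV p R _

theorem tmul_mem_IV_smul_top (b : WittVector p R) {t' : P}
    (ht' : t' ∈ IV p S • (⊤ : Submodule (WittVector p S) P)) :
    BC.tmul (wmap p f) b t' ∈ IV p R • (⊤ : Submodule (WittVector p R) (BC (wmap p f) P)) := by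
  refine Submodule.smul_induction_on ht' ?_ ?_
  · intro ξ hξ x _
    rw [← BC.tmul_mul_apply, BC.tmul_eq_smul_tmul_one, mul_comm]
    exact Submodule.smul_mem_smul (Ideal.mul_mem_right _ _ (wmap_mem_IV f hξ)) Submodule.mem_top
  · intro x y hx hy
    rw [BC.tmul_add]
    exact Submodule.add_mem _ hx hy

theorem mem_IV_of_constantCoeff_eq_zero {b : WittVector p R} (hb : WittVector.constantCoeff b = 0) :
    b ∈ IV p R := by
  obtain ⟨w, rfl⟩ := exists_verschiebung_eq hb
  exact verschiebung_mem_IV p R w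

theorem constantCoeff_eq_zero_of_mem_IV {b : WittVector p R} (hb : b ∈ IV p R) :
    WittVector.constantCoeff b = 0 := by
  obtain ⟨w, rfl⟩ := (mem_IV_iff b).mp hb
  exact WittVector.verschiebung_coeff_zero w

/-- `I_R · P_R ≤ Q_R`. -/
theorem IV_smul_le_ker (Q : Submodule (WittVector p S) P) :
    IV p R • (⊤ : Submodule (WittVector p R) (BC (wmap p f) P)) ≤ LinearMap.ker (bcQuotMap f Q) := by
  intro z hz
  refine Submodule.smul_induction_on hz ?_ ?_
  · intro ξ hξ u _
    rw [LinearMap.mem_ker, map_smulₛₗ, constantCoeff_eq_zero_of_mem_IV hξ, zero_smul]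
  · intro x y hx hy
    exact Submodule.add_mem _ hx hy

theorem tmul_mem_ker (Q : Submodule (WittVector p S) P) (b : WittVector p R) {y : P} (hy : y ∈ Q) :
    BC.tmul (wmap p f) b y ∈ LinearMap.ker (bcQuotMap f Q) := by
  rw [LinearMap.mem_ker, bcQuotMap_tmul]
  have : Q.mkQ y = 0 := (Submodule.Quotient.mk_eq_zero Q).mpr hy
  rw [this]
  exact TensorProduct.tmul_zero _ _

theorem BC_map_add_apply {P' : Type w} [AddCommGroup P'] [Module (WittVector p S) P']
    (φ ψ : P →ₗ[WittVector p S] P') (z : BC (wmap p f) P) :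
    BC.map (wmap p f) (φ + ψ) z = BC.map (wmap p f) φ z + BC.map (wmap p f) ψ z := by
  induction z using BC.induction_on (wmap p f) with
  | zero => simp only [map_zero, add_zero]
  | tmul b x => rw [BC.map_tmul, BC.map_tmul, BC.map_tmul, LinearMap.add_apply, BC.tmul_add]
  | add z₁ z₂ h₁ h₂ => rw [map_add, map_add, map_add, h₁, h₂]; abel

theorem BC_map_id_apply (z : BC (wmap p f) P) : BC.map (wmap p f) LinearMap.id z = z := by
  induction z using BC.induction_on (wmap p f) with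
  | zero => simp only [map_zero]
  | tmul b x => rw [BC.map_tmul, LinearMap.id_apply]
  | add z₁ z₂ h₁ h₂ => rw [map_add, h₁, h₂]

theorem BC_map_zero_apply {P' : Type w} [AddCommGroup P'] [Module (WittVector p S) P']
    (z : BC (wmap p f) P) : BC.map (wmap p f) (0 : P →ₗ[WittVector p S] P') z = 0 := by
  induction z using BC.induction_on (wmap p f) with
  | zero => simp only [map_zero]
  | tmul b x =>
    rw [BC.map_tmul, LinearMap.zero_apply]
    exact TensorProduct.tmul_zero _ _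
  | add z₁ z₂ h₁ h₂ => rw [map_add, h₁, h₂, add_zero]

end

section Normal

variable {p : ℕ} [Fact p.Prime] {S R : Type u} [CommRing S] [CommRing R] (f : S →+* R)
variable {P : Type v} [AddCommGroup P] [Module (WittVector p S) P]
variable (D : Display3n p S P) (L T : Submodule (WittVector p S) P) (hLT : IsCompl L T)

/-- projection to `L`. -/
noncomputable abbrev projL : P →ₗ[WittVector p S] L := L.projectionOnto T hLT

/-- the idempotent of `P` with image `L`. -/
noncomputable abbrev piL : P →ₗ[WittVector p S] P := L.projection T hLT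

/-- the idempotent of `P` with image `T`. -/
noncomputable abbrev piT : P →ₗ[WittVector p S] P := T.projection L hLT.symm

theorem piL_eq : piL L T hLT = L.subtype ∘ₗ projL L T hLT := rfl

theorem piL_add_piT : piL L T hLT + piT L T hLT = LinearMap.id :=
  Submodule.projection_add_projection_eq_id hLT

theorem piL_add_piT_apply (x : P) : piL L T hLT x + piT L T hLT x = x :=
  Submodule.projection_add_projection_eq_self hLT x

theorem piL_comp_piT : piL L T hLT ∘ₗ piT L T hLT = 0 := by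
  ext x
  exact Submodule.projection_apply_of_mem_right hLT (Submodule.projection_apply_mem hLT.symm x)

theorem piT_comp_piL : piT L T hLT ∘ₗ piL L T hLT = 0 := by
  ext x
  exact Submodule.projection_apply_of_mem_right hLT.symm (Submodule.projection_apply_mem hLT x)

theorem piL_comp_piL : piL L T hLT ∘ₗ piL L T hLT = piL L T hLT := by
  ext x
  exact Submodule.projection_apply_of_mem_left hLT (Submodule.projection_apply_mem hLT x)

theorem piT_comp_piT : piT L T hLT ∘ₗ piT L T hLT = piT L T hLT := by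
  ext x
  exact Submodule.projection_apply_of_mem_left hLT.symm (Submodule.projection_apply_mem hLT.symm x)

theorem piT_mem_of_mem_Q (hQ : D.Q = L ⊔ IV p S • T) {y : P} (hy : y ∈ D.Q) :
    piT L T hLT y ∈ IV p S • (⊤ : Submodule (WittVector p S) P) := by
  rw [hQ] at hy
  obtain ⟨l, hl, t', ht', rfl⟩ := Submodule.mem_sup.mp hy
  have h1 : piT L T hLT l = 0 := Submodule.projection_apply_of_mem_right hLT.symm hl
  have ht'T : t' ∈ T := Submodule.smul_le_right ht'
  have h2 : piT L T hLT t' = t' := Submodule.projection_apply_of_mem_left hLT.symm ht'T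
  rw [map_add, h1, h2, zero_add]
  exact (Submodule.smul_mono le_rfl le_top) ht'

theorem piL_mem_Q (hQ : D.Q = L ⊔ IV p S • T) (y : P) : piL L T hLT y ∈ D.Q := by
  rw [hQ]
  exact Submodule.mem_sup_left (Submodule.projection_apply_mem hLT y)

/-- (K1) the `T`-component of an element of `Q_R` lies in `I_R · P_R`. -/
theorem map_piT_mem (hQ : D.Q = L ⊔ IV p S • T) {z : BC (wmap p f) P}
    (hz : z ∈ LinearMap.ker (bcQuotMap f D.Q)) :
    BC.map (wmap p f) (piT L T hLT) z ∈
      IV p R • (⊤ : Submodule (WittVector p R) (BC (wmap p f) P)) := by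
  rw [LinearMap.mem_ker] at hz
  refine quotMapGen_ker_induction (wmap p f) (WittVector.constantCoeff : WittVector p R →+* R)
    constantCoeff_surjective D.Q
    (motive := fun z => BC.map (wmap p f) (piT L T hLT) z ∈
      IV p R • (⊤ : Submodule (WittVector p R) (BC (wmap p f) P))) ?_ ?_ ?_ ?_ z hz
  · rw [map_zero]; exact Submodule.zero_mem _
  · intro z₁ z₂ h₁ h₂
    rw [map_add]; exact Submodule.add_mem _ h₁ h₂
  · intro b y hy
    rw [BC.map_tmul]
    exact tmul_mem_IV_smul_top f b (piT_mem_of_mem_Q D L T hLT hQ hy)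
  · intro b hb x
    rw [BC.map_tmul, BC.tmul_eq_smul_tmul_one]
    exact Submodule.smul_mem_smul (mem_IV_of_constantCoeff_eq_zero hb) Submodule.mem_top


/-- `F_R`. -/
noncomputable def FR : BC (wmap p f) P →ₛₗ[frob p R] BC (wmap p f) P :=
  bcSemi (wmap p f) (frob p S) (frob p R) (wmap_frob f) D.F

theorem FR_tmul (b : WittVector p R) (x : P) :
    FR f D (BC.tmul (wmap p f) b x) = BC.tmul (wmap p f) (frob p R b) (D.F x) :=
  bcSemi_tmul _ _ _ _ _ _ _

/-- `V⁻¹` restricted to `L`. -/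
noncomputable def VinvL (hLQ : L ≤ D.Q) : L →ₛₗ[frob p S] P :=
  D.Vinv.comp (Submodule.inclusion hLQ)

theorem VinvL_apply (hLQ : L ≤ D.Q) (l : L) : VinvL D L hLQ l = D.Vinv ⟨l, hLQ l.2⟩ := rfl

/-- `w ⊗ l ↦ σ w ⊗ V⁻¹ l`. -/
noncomputable def PsiL (hLQ : L ≤ D.Q) : BC (wmap p f) L →ₛₗ[frob p R] BC (wmap p f) P :=
  bcSemi (wmap p f) (frob p S) (frob p R) (wmap_frob f) (VinvL D L hLQ)

theorem PsiL_tmul (hLQ : L ≤ D.Q) (b : WittVector p R) (l : L) :
    PsiL f D L hLQ (BC.tmul (wmap p f) b l) =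
      BC.tmul (wmap p f) (frob p R b) (D.Vinv ⟨l, hLQ l.2⟩) :=
  bcSemi_tmul _ _ _ _ _ _ _

theorem smul_tmul_natCast (c : ℕ) (b : WittVector p R) (x : P) :
    (c : WittVector p R) • BC.tmul (wmap p f) b x = BC.tmul (wmap p f) b ((c : WittVector p S) • x) := by
  rw [← BC.tmul_mul_apply, map_natCast, BC.smul_tmul, mul_comm]

/-- `p • PsiL y = F_R y`. -/
theorem p_smul_PsiL (hLQ : L ≤ D.Q) (y : BC (wmap p f) L) :
    (p : WittVector p R) • PsiL f D L hLQ y = FR f D (BC.map (wmap p f) L.subtype y) := by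
  induction y using BC.induction_on (wmap p f) with
  | zero => simp only [map_zero, smul_zero]
  | tmul b l =>
    rw [PsiL_tmul, BC.map_tmul, FR_tmul, smul_tmul_natCast]
    congr 1
    exact (F_eq_p_smul_Vinv D ⟨l, hLQ l.2⟩).symm
  | add z₁ z₂ h₁ h₂ => rw [map_add, smul_add, h₁, h₂, map_add, map_add]

theorem flat_BC (D' : Display3n p S P) : Module.Flat (WittVector p R) (BC (wmap p f) P) := by
  have := D'.finite
  have := D'.projective
  have h := (BC_facts (wmap p f) P).2.1
  exact @Module.Flat.of_projective _ _ _ _ _ h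

/-- `V_R⁻¹`. -/
noncomputable def VinvR (hQ : D.Q = L ⊔ IV p S • T) (hLQ : L ≤ D.Q) :
    LinearMap.ker (bcQuotMap f D.Q) →ₛₗ[frob p R] BC (wmap p f) P :=
  haveI := flat_BC f D
  (PsiL f D L hLQ).comp ((BC.map (wmap p f) (projL L T hLT)).comp
      (LinearMap.ker (bcQuotMap f D.Q)).subtype) +
    (vinvSmul (FR f D)).comp
      (LinearMap.codRestrict (IV p R • (⊤ : Submodule (WittVector p R) (BC (wmap p f) P)))
        ((BC.map (wmap p f) (piT L T hLT)).comp (LinearMap.ker (bcQuotMap f D.Q)).subtype)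
        (fun z => map_piT_mem f D L T hLT hQ z.2))

theorem VinvR_apply (hQ : D.Q = L ⊔ IV p S • T) (hLQ : L ≤ D.Q) (z : BC (wmap p f) P)
    (hz : z ∈ LinearMap.ker (bcQuotMap f D.Q)) :
    haveI := flat_BC f D
    VinvR f D L T hLT hQ hLQ ⟨z, hz⟩ =
      PsiL f D L hLQ (BC.map (wmap p f) (projL L T hLT) z) +
        vinvSmul (FR f D) ⟨BC.map (wmap p f) (piT L T hLT) z, map_piT_mem f D L T hLT hQ hz⟩ := rfl


theorem map_piL_add_map_piT (z : BC (wmap p f) P) :
    BC.map (wmap p f) (piL L T hLT) z + BC.map (wmap p f) (piT L T hLT) z = z := by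
  rw [← BC_map_add_apply, piL_add_piT, BC_map_id_apply]

/-- (K5) `V_R⁻¹ (V w • x) = w • F_R x`. -/
theorem VinvR_verschiebung_smul (hQ : D.Q = L ⊔ IV p S • T) (hLQ : L ≤ D.Q)
    (w : WittVector p R) (x : BC (wmap p f) P)
    (h : WittVector.verschiebung w • x ∈ LinearMap.ker (bcQuotMap f D.Q)) :
    VinvR f D L T hLT hQ hLQ ⟨WittVector.verschiebung w • x, h⟩ = w • FR f D x := by
  haveI := flat_BC f D
  rw [VinvR_apply]
  have h1 : PsiL f D L hLQ (BC.map (wmap p f) (projL L T hLT) (WittVector.verschiebung w • x)) =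
      w • FR f D (BC.map (wmap p f) (piL L T hLT) x) := by
    rw [map_smul, map_smulₛₗ]
    change WittVector.frobenius (WittVector.verschiebung w) • _ = _
    rw [WittVector.frobenius_verschiebung, mul_smul, p_smul_PsiL, ← BC.map_comp]
    rfl
  have h2 : vinvSmul (FR f D) ⟨BC.map (wmap p f) (piT L T hLT) (WittVector.verschiebung w • x),
      map_piT_mem f D L T hLT hQ h⟩ = w • FR f D (BC.map (wmap p f) (piT L T hLT) x) := by
    have h3 : WittVector.verschiebung w • BC.map (wmap p f) (piT L T hLT) x ∈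
        IV p R • (⊤ : Submodule (WittVector p R) (BC (wmap p f) P)) :=
      Submodule.smul_mem_smul (verschiebung_mem_IV p R w) Submodule.mem_top
    rw [← vinvSmul_verschiebung_smul (FR f D) w _ h3]
    exact congrArg _ (Subtype.ext (map_smul _ _ _))
  rw [h1, h2, ← smul_add, ← map_add, map_piL_add_map_piT]

/-- `V_R⁻¹ (w ⊗ t') = σ w ⊗ V⁻¹ t'` for `t' ∈ I_S · P`. -/
theorem vinvSmul_tmul (w : WittVector p R) {t' : P}
    (ht' : t' ∈ IV p S • (⊤ : Submodule (WittVector p S) P)) :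
    haveI := flat_BC f D
    ∃ (hmem : BC.tmul (wmap p f) w t' ∈
        IV p R • (⊤ : Submodule (WittVector p R) (BC (wmap p f) P))) (hQ' : t' ∈ D.Q),
      vinvSmul (FR f D) ⟨BC.tmul (wmap p f) w t', hmem⟩ =
        BC.tmul (wmap p f) (frob p R w) (D.Vinv ⟨t', hQ'⟩) := by
  haveI := flat_BC f D
  refine Submodule.smul_induction_on ht' ?_ ?_
  · intro ξ hξ x _
    obtain ⟨s, rfl⟩ := (mem_IV_iff ξ).mp hξ
    have hmem := tmul_mem_IV_smul_top f w
      (Submodule.smul_mem_smul (verschiebung_mem_IV p S s) (Submodule.mem_top (x := x)))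
    refine ⟨hmem, D.IV_smul_le (Submodule.smul_mem_smul (verschiebung_mem_IV p S s) Submodule.mem_top), ?_⟩
    have h1 : BC.tmul (wmap p f) w (WittVector.verschiebung s • x) =
        WittVector.verschiebung (wmap p f s * frob p R w) • BC.tmul (wmap p f) 1 x := by
      rw [← BC.tmul_mul_apply, wmap_verschiebung, BC.tmul_eq_smul_tmul_one]
      congr 1
      rw [mul_comm]
      exact (WittVector.verschiebung_mul_frobenius _ _).symm
    have h2 : WittVector.verschiebung (wmap p f s * frob p R w) • BC.tmul (wmap p f) 1 x ∈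
        IV p R • (⊤ : Submodule (WittVector p R) (BC (wmap p f) P)) :=
      Submodule.smul_mem_smul (verschiebung_mem_IV p R _) Submodule.mem_top
    have h3 : (⟨BC.tmul (wmap p f) w (WittVector.verschiebung s • x), hmem⟩ :
        (IV p R • (⊤ : Submodule (WittVector p R) (BC (wmap p f) P)) : Submodule _ _)) =
        ⟨_, h2⟩ := Subtype.ext h1
    rw [h3, vinvSmul_verschiebung_smul, FR_tmul, map_one, D.Vinv_verschiebung_smul s x,
      BC.smul_tmul, mul_one, ← BC.tmul_mul_apply, mul_comm]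
  · rintro x y ⟨hx, hxQ, hx'⟩ ⟨hy, hyQ, hy'⟩
    have hmem : BC.tmul (wmap p f) w (x + y) ∈
        IV p R • (⊤ : Submodule (WittVector p R) (BC (wmap p f) P)) := by
      rw [BC.tmul_add]; exact Submodule.add_mem _ hx hy
    refine ⟨hmem, D.Q.add_mem hxQ hyQ, ?_⟩
    have h1 : (⟨BC.tmul (wmap p f) w (x + y), hmem⟩ :
        (IV p R • (⊤ : Submodule (WittVector p R) (BC (wmap p f) P)) : Submodule _ _)) =
        ⟨_, hx⟩ + ⟨_, hy⟩ := Subtype.ext (BC.tmul_add _ _ _ _)
    have h2 : (⟨x + y, D.Q.add_mem hxQ hyQ⟩ : D.Q) = ⟨x, hxQ⟩ + ⟨y, hyQ⟩ := rfl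
    rw [h1, map_add, hx', hy', h2, map_add, BC.tmul_add]

/-- `V_R⁻¹ (w ⊗ y) = σ w ⊗ V⁻¹ y` for `y ∈ Q`. -/
theorem VinvR_tmul (hQ : D.Q = L ⊔ IV p S • T) (hLQ : L ≤ D.Q) (w : WittVector p R) (y : D.Q)
    (h : BC.tmul (wmap p f) w (y : P) ∈ LinearMap.ker (bcQuotMap f D.Q)) :
    VinvR f D L T hLT hQ hLQ ⟨BC.tmul (wmap p f) w (y : P), h⟩ =
      BC.tmul (wmap p f) (frob p R w) (D.Vinv y) := by
  haveI := flat_BC f D
  rw [VinvR_apply]
  obtain ⟨hmem, hQ', h1⟩ := vinvSmul_tmul f D w (piT_mem_of_mem_Q D L T hLT hQ y.2)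
  have h2 : (⟨BC.map (wmap p f) (piT L T hLT) (BC.tmul (wmap p f) w (y : P)),
      map_piT_mem f D L T hLT hQ h⟩ :
      (IV p R • (⊤ : Submodule (WittVector p R) (BC (wmap p f) P)) : Submodule _ _)) =
      ⟨_, hmem⟩ := Subtype.ext (BC.map_tmul _ _ _ _)
  rw [h2, h1, BC.map_tmul, PsiL_tmul, ← BC.tmul_add, ← map_add]
  congr 2
  exact Subtype.ext (piL_add_piT_apply L T hLT (y : P))


theorem span_range_VinvR (hQ : D.Q = L ⊔ IV p S • T) (hLQ : L ≤ D.Q) :
    Submodule.span (WittVector p R) (Set.range (VinvR f D L T hLT hQ hLQ)) = ⊤ := by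
  rw [eq_top_iff]
  intro z _
  have key : ∀ x : P, BC.tmul (wmap p f) 1 x ∈
      Submodule.span (WittVector p R) (Set.range (VinvR f D L T hLT hQ hLQ)) := by
    intro x
    have hx : x ∈ Submodule.span (WittVector p S) (Set.range D.Vinv) := by
      rw [D.span_range_Vinv]; exact Submodule.mem_top
    induction hx using Submodule.span_induction with
    | mem x hx =>
      obtain ⟨y, rfl⟩ := hx
      apply Submodule.subset_span
      refine ⟨⟨BC.tmul (wmap p f) 1 (y : P), tmul_mem_ker f D.Q 1 y.2⟩, ?_⟩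
      rw [VinvR_tmul, map_one]
    | zero =>
      have : BC.tmul (wmap p f) (1 : WittVector p R) (0 : P) = 0 := TensorProduct.tmul_zero _ _
      rw [this]
      exact Submodule.zero_mem _
    | add x y _ _ hx hy =>
      rw [BC.tmul_add]
      exact Submodule.add_mem _ hx hy
    | smul a x _ hx =>
      rw [← BC.tmul_apply_eq, BC.tmul_eq_smul_tmul_one]
      exact Submodule.smul_mem _ _ hx
  induction z using BC.induction_on (wmap p f) with
  | zero => exact Submodule.zero_mem _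
  | tmul b x =>
    rw [BC.tmul_eq_smul_tmul_one]
    exact Submodule.smul_mem _ _ (key x)
  | add z₁ z₂ h₁ h₂ => exact Submodule.add_mem _ (h₁ Submodule.mem_top) (h₂ Submodule.mem_top)

theorem map_piL_mem_ker (hQ : D.Q = L ⊔ IV p S • T) (z : BC (wmap p f) P) :
    BC.map (wmap p f) (piL L T hLT) z ∈ LinearMap.ker (bcQuotMap f D.Q) := by
  induction z using BC.induction_on (wmap p f) with
  | zero => rw [map_zero]; exact Submodule.zero_mem _
  | tmul b x =>
    rw [BC.map_tmul]
    exact tmul_mem_ker f D.Q b (piL_mem_Q D L T hLT hQ x)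
  | add z₁ z₂ h₁ h₂ => rw [map_add]; exact Submodule.add_mem _ h₁ h₂

include hLT in
theorem exists_normal_BC (hQ : D.Q = L ⊔ IV p S • T) :
    ∃ L' T' : Submodule (WittVector p R) (BC (wmap p f) P), IsCompl L' T' ∧
      LinearMap.ker (bcQuotMap f D.Q) = L' ⊔ IV p R • T' := by
  refine ⟨LinearMap.range (BC.map (wmap p f) (piL L T hLT)),
    LinearMap.range (BC.map (wmap p f) (piT L T hLT)), ⟨?_, ?_⟩, ?_⟩
  · rw [Submodule.disjoint_def]
    rintro z ⟨a, rfl⟩ ⟨b, hb⟩
    have h1 : BC.map (wmap p f) (piL L T hLT) (BC.map (wmap p f) (piL L T hLT) a) =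
        BC.map (wmap p f) (piL L T hLT) a := by
      rw [← BC.map_comp, piL_comp_piL]
    rw [← h1, ← hb, ← BC.map_comp, piL_comp_piT, BC_map_zero_apply]
  · rw [codisjoint_iff, eq_top_iff]
    intro z _
    rw [← map_piL_add_map_piT f L T hLT z]
    exact Submodule.add_mem_sup (LinearMap.mem_range_self _ _) (LinearMap.mem_range_self _ _)
  · apply le_antisymm
    · intro z hz
      rw [← map_piL_add_map_piT f L T hLT z]
      refine Submodule.add_mem_sup (LinearMap.mem_range_self _ _) ?_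
      have h1 := map_piT_mem f D L T hLT hQ hz
      have h2 : BC.map (wmap p f) (piT L T hLT) (BC.map (wmap p f) (piT L T hLT) z) =
          BC.map (wmap p f) (piT L T hLT) z := by
        rw [← BC.map_comp, piT_comp_piT]
      rw [← h2]
      have h3 : BC.map (wmap p f) (piT L T hLT) (BC.map (wmap p f) (piT L T hLT) z) ∈
          Submodule.map (BC.map (wmap p f) (piT L T hLT))
            (IV p R • (⊤ : Submodule (WittVector p R) (BC (wmap p f) P))) :=
        Submodule.mem_map_of_mem h1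
      rw [Submodule.map_smul'', Submodule.map_top] at h3
      exact h3
    · rw [sup_le_iff]
      constructor
      · rintro _ ⟨a, rfl⟩
        exact map_piL_mem_ker f D L T hLT hQ a
      · exact (Submodule.smul_mono le_rfl le_top).trans (IV_smul_le_ker f D.Q)

/-- The base change display. -/
noncomputable def displayBC (hQ : D.Q = L ⊔ IV p S • T) (hLQ : L ≤ D.Q) :
    Display3n p R (BC (wmap p f) P) where
  Q := LinearMap.ker (bcQuotMap f D.Q)
  F := FR f D
  Vinv := VinvR f D L T hLT hQ hLQ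
  finite := by
    have := D.finite
    have := D.projective
    exact (BC_facts (wmap p f) P).1
  projective := by
    have := D.finite
    have := D.projective
    exact (BC_facts (wmap p f) P).2.1
  IV_smul_le := IV_smul_le_ker f D.Q
  exists_normal := exists_normal_BC f D L T hLT hQ
  span_range_Vinv := span_range_VinvR f D L T hLT hQ hLQ
  Vinv_verschiebung_smul w x := VinvR_verschiebung_smul f D L T hLT hQ hLQ w x _

theorem isDispBaseChange_displayBC (hQ : D.Q = L ⊔ IV p S • T) (hLQ : L ≤ D.Q) :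
    IsDispBaseChange f D (displayBC f D L T hLT hQ hLQ) where
  Q_eq := rfl
  F_tmul w x := FR_tmul f D w x
  Vinv_tmul w y h := VinvR_tmul f D L T hLT hQ hLQ w y h
  Vinv_verschiebung_tmul w x h := by
    have h1 : BC.tmul (wmap p f) (WittVector.verschiebung w) x =
        WittVector.verschiebung w • BC.tmul (wmap p f) 1 x := BC.tmul_eq_smul_tmul_one _ _ _
    have h2 : WittVector.verschiebung w • BC.tmul (wmap p f) 1 x ∈
        LinearMap.ker (bcQuotMap f D.Q) := h1 ▸ h
    have h3 : (⟨BC.tmul (wmap p f) (WittVector.verschiebung w) x, h⟩ :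
        LinearMap.ker (bcQuotMap f D.Q)) = ⟨_, h2⟩ := Subtype.ext h1
    change VinvR f D L T hLT hQ hLQ ⟨_, h⟩ = _
    rw [h3, VinvR_verschiebung_smul, FR_tmul, map_one, BC.smul_tmul, mul_one]

end Normal

section Unique

variable {p : ℕ} [Fact p.Prime] {S R : Type u} [CommRing S] [CommRing R] (f : S →+* R)
variable {P : Type v} [AddCommGroup P] [Module (WittVector p S) P]

theorem display3n_ext {N : Type v} [AddCommGroup N] [Module (WittVector p R) N]
    (D₁ D₂ : Display3n p R N) (hQ : D₁.Q = D₂.Q) (hF : D₁.F = D₂.F)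
    (hV : ∀ (z : N) (h₁ : z ∈ D₁.Q) (h₂ : z ∈ D₂.Q), D₁.Vinv ⟨z, h₁⟩ = D₂.Vinv ⟨z, h₂⟩) :
    D₁ = D₂ := by
  cases D₁ with
  | mk Q₁ F₁ V₁ _ _ _ _ _ _ =>
  cases D₂ with
  | mk Q₂ F₂ V₂ _ _ _ _ _ _ =>
  simp only at hQ hF hV
  subst hQ
  subst hF
  have : V₁ = V₂ := by
    ext ⟨z, hz⟩
    exact hV z hz hz
  subst this
  rfl

theorem isDispBaseChange_unique (D : Display3n p S P)
    (DR₁ DR₂ : Display3n p R (BC (wmap p f) P))
    (h₁ : IsDispBaseChange f D DR₁) (h₂ : IsDispBaseChange f D DR₂) : DR₁ = DR₂ := by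
  apply display3n_ext
  · rw [h₁.Q_eq, h₂.Q_eq]
  · apply semilinear_ext_tmul
    intro b x
    rw [h₁.F_tmul, h₂.F_tmul]
  · intro z hz₁ hz₂
    have hz : bcQuotMap f D.Q z = 0 := by
      rw [h₁.Q_eq] at hz₁
      exact hz₁
    have key := quotMapGen_ker_induction (wmap p f) (WittVector.constantCoeff : WittVector p R →+* R)
      constantCoeff_surjective D.Q
      (motive := fun z => ∃ (h₁' : z ∈ DR₁.Q) (h₂' : z ∈ DR₂.Q),
        DR₁.Vinv ⟨z, h₁'⟩ = DR₂.Vinv ⟨z, h₂'⟩) ?_ ?_ ?_ ?_ z hz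
    · obtain ⟨_, _, h⟩ := key
      exact h
    · refine ⟨DR₁.Q.zero_mem, DR₂.Q.zero_mem, ?_⟩
      have e1 : (⟨0, DR₁.Q.zero_mem⟩ : DR₁.Q) = 0 := rfl
      have e2 : (⟨0, DR₂.Q.zero_mem⟩ : DR₂.Q) = 0 := rfl
      rw [e1, e2, map_zero, map_zero]
    · rintro z₁ z₂ ⟨a₁, a₂, ha⟩ ⟨b₁, b₂, hb⟩
      refine ⟨DR₁.Q.add_mem a₁ b₁, DR₂.Q.add_mem a₂ b₂, ?_⟩
      have e1 : (⟨z₁ + z₂, DR₁.Q.add_mem a₁ b₁⟩ : DR₁.Q) = ⟨z₁, a₁⟩ + ⟨z₂, b₁⟩ := rfl
      have e2 : (⟨z₁ + z₂, DR₂.Q.add_mem a₂ b₂⟩ : DR₂.Q) = ⟨z₁, a₂⟩ + ⟨z₂, b₂⟩ := rfl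
      rw [e1, e2, map_add, map_add, ha, hb]
    · intro b y hy
      have hk := tmul_mem_ker f D.Q b hy
      have m₁ : BC.tmul (wmap p f) b y ∈ DR₁.Q := by rw [h₁.Q_eq]; exact hk
      have m₂ : BC.tmul (wmap p f) b y ∈ DR₂.Q := by rw [h₂.Q_eq]; exact hk
      refine ⟨m₁, m₂, ?_⟩
      rw [h₁.Vinv_tmul b ⟨y, hy⟩ m₁, h₂.Vinv_tmul b ⟨y, hy⟩ m₂]
    · intro b hb x
      obtain ⟨w, rfl⟩ := exists_verschiebung_eq hb
      have hk : BC.tmul (wmap p f) (WittVector.verschiebung w) x ∈ LinearMap.ker (bcQuotMap f D.Q) := by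
        apply IV_smul_le_ker f D.Q
        rw [BC.tmul_eq_smul_tmul_one]
        exact Submodule.smul_mem_smul (verschiebung_mem_IV p R w) Submodule.mem_top
      have m₁ : BC.tmul (wmap p f) (WittVector.verschiebung w) x ∈ DR₁.Q := by rw [h₁.Q_eq]; exact hk
      have m₂ : BC.tmul (wmap p f) (WittVector.verschiebung w) x ∈ DR₂.Q := by rw [h₂.Q_eq]; exact hk
      refine ⟨m₁, m₂, ?_⟩
      rw [h₁.Vinv_verschiebung_tmul w x m₁, h₂.Vinv_verschiebung_tmul w x m₂]

theorem existsUnique_isDispBaseChange (D : Display3n p S P) :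
    ∃! DR : Display3n p R (BC (wmap p f) P), IsDispBaseChange f D DR := by
  obtain ⟨L, T, hLT, hQ⟩ := D.exists_normal
  have hLQ : L ≤ D.Q := hQ ▸ le_sup_left
  exact ⟨displayBC f D L T hLT hQ hLQ, isDispBaseChange_displayBC f D L T hLT hQ hLQ,
    fun DR hDR => isDispBaseChange_unique f D DR _ hDR (isDispBaseChange_displayBC f D L T hLT hQ hLQ)⟩

end Unique

end Groth.Agent.H8.Disp
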