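import Mathlib
import Groth.Agent.Lib.Helper8.Disp.BCRank

set_option autoImplicit false

universe u v w

namespace Groth.Agent.H8.Disp

open Dieu W4c1extbt610 TensorProduct

section Witt

variable {p : ℕ} [Fact p.Prime] {R : Type u} [CommRing R]
variable {P : Type v} [AddCommGroup P] [Module (WittVector p R) P]

/-- The semilinear map `Φ = V⁻¹|L ⊕ F|T` attached to a normal decomposition. -/
noncomputable def phiOfNormal (D : Display3n p R P) (L T : Submodule (WittVector p R) P) (h : IsCompl L T)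
    (hLQ : L ≤ D.Q) : P →ₛₗ[frob p R] P :=
  D.Vinv.comp ((Submodule.inclusion hLQ).comp (Submodule.projectionOnto L T h)) +
    D.F.comp (T.subtype.comp (Submodule.projectionOnto T L h.symm))

theorem phiOfNormal_apply_L (D : Display3n p R P) (L T : Submodule (WittVector p R) P) (h : IsCompl L T)
    (hLQ : L ≤ D.Q) {l : P} (hl : l ∈ L) : phiOfNormal D L T h hLQ l = D.Vinv ⟨l, hLQ hl⟩ := by
  rw [phiOfNormal, LinearMap.add_apply, LinearMap.comp_apply, LinearMap.comp_apply, LinearMap.comp_apply,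
    LinearMap.comp_apply]
  have h1 : Submodule.projectionOnto L T h l = ⟨l, hl⟩ :=
    Submodule.projectionOnto_apply_left h ⟨l, hl⟩
  have h2 : Submodule.projectionOnto T L h.symm l = 0 :=
    (Submodule.projectionOnto_apply_eq_zero_iff h.symm).mpr hl
  rw [h1, h2, map_zero, map_zero, add_zero]
  rfl

theorem phiOfNormal_apply_T (D : Display3n p R P) (L T : Submodule (WittVector p R) P) (h : IsCompl L T)
    (hLQ : L ≤ D.Q) {t : P} (ht : t ∈ T) : phiOfNormal D L T h hLQ t = D.F t := by
  rw [phiOfNormal, LinearMap.add_apply, LinearMap.comp_apply, LinearMap.comp_apply, LinearMap.comp_apply,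
    LinearMap.comp_apply]
  have h1 : Submodule.projectionOnto T L h.symm t = ⟨t, ht⟩ :=
    Submodule.projectionOnto_apply_left h.symm ⟨t, ht⟩
  have h2 : Submodule.projectionOnto L T h t = 0 :=
    (Submodule.projectionOnto_apply_eq_zero_iff h).mpr ht
  rw [h1, h2, map_zero, map_zero, zero_add]
  rfl

theorem lift_phiOfNormal_surjective (D : Display3n p R P) (L T : Submodule (WittVector p R) P) (h : IsCompl L T)
    (hQ : D.Q = L ⊔ IV p R • T) (hLQ : L ≤ D.Q) :
    Function.Surjective (BC.lift (frob p R) (phiOfNormal D L T h hLQ)) := by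
  rw [← LinearMap.range_eq_top]
  refine eq_top_of_normal D L T hQ hLQ (L : Set P) (T : Set P) (Submodule.span_eq L) (Submodule.span_eq T) _ ?_ ?_
  · intro l hl
    refine ⟨BC.tmul (frob p R) 1 l, ?_⟩
    rw [BC.lift_tmul, one_smul]
    exact phiOfNormal_apply_L D L T h hLQ hl
  · intro t ht
    refine ⟨BC.tmul (frob p R) 1 t, ?_⟩
    rw [BC.lift_tmul, one_smul]
    exact phiOfNormal_apply_T D L T h hLQ ht

theorem lift_phiOfNormal_bijective (hp : IsNilpotent (p : R)) (D : Display3n p R P)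
    (L T : Submodule (WittVector p R) P) (h : IsCompl L T)
    (hQ : D.Q = L ⊔ IV p R • T) (hLQ : L ≤ D.Q) :
    Function.Bijective (BC.lift (frob p R) (phiOfNormal D L T h hLQ)) := by
  haveI := D.finite
  haveI := D.projective
  obtain ⟨h1, h2, h3⟩ := BC_facts (frob p R) P
  haveI := h1
  haveI := h2
  haveI : Module.Flat (WittVector p R) (BC (frob p R) P) := Module.Flat.of_projective
  haveI : Module.Flat (WittVector p R) P := Module.Flat.of_projective
  refine Module.bijective_of_surjective_of_rankAtStalk_eq (lift_phiOfNormal_surjective D L T h hQ hLQ) ?_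
  intro m hm
  rw [h3]
  congr 1
  apply PrimeSpectrum.ext
  exact comap_frob_eq hp m

/-- `Ψ = π_L + p π_T`. -/
noncomputable def psiOfNormal (L T : Submodule (WittVector p R) P) (h : IsCompl L T) :
    P →ₗ[WittVector p R] P :=
  L.projection T h + (p : WittVector p R) • T.projection L h.symm

theorem psiOfNormal_apply_L (L T : Submodule (WittVector p R) P) (h : IsCompl L T) {l : P} (hl : l ∈ L) :
    psiOfNormal L T h l = l := by
  rw [psiOfNormal, LinearMap.add_apply, LinearMap.smul_apply, Submodule.projection_apply_of_mem_left h hl,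
    Submodule.projection_apply_of_mem_right h.symm hl, smul_zero, add_zero]

theorem psiOfNormal_apply_T (L T : Submodule (WittVector p R) P) (h : IsCompl L T) {t : P} (ht : t ∈ T) :
    psiOfNormal L T h t = (p : WittVector p R) • t := by
  rw [psiOfNormal, LinearMap.add_apply, LinearMap.smul_apply, Submodule.projection_apply_of_mem_left h.symm ht,
    Submodule.projection_apply_of_mem_right h ht, zero_add]

/-- The operator `V^#` built from a normal decomposition. -/
noncomputable def vSharpOfNormal (hp : IsNilpotent (p : R)) (D : Display3n p R P)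
    (L T : Submodule (WittVector p R) P) (h : IsCompl L T) (hQ : D.Q = L ⊔ IV p R • T) (hLQ : L ≤ D.Q) :
    P →ₗ[WittVector p R] BC (frob p R) P :=
  (BC.map (frob p R) (psiOfNormal L T h)) ∘ₗ
    (LinearEquiv.ofBijective _ (lift_phiOfNormal_bijective hp D L T h hQ hLQ)).symm.toLinearMap

theorem vSharpOfNormal_lift (hp : IsNilpotent (p : R)) (D : Display3n p R P)
    (L T : Submodule (WittVector p R) P) (h : IsCompl L T) (hQ : D.Q = L ⊔ IV p R • T) (hLQ : L ≤ D.Q)
    (z : BC (frob p R) P) :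
    vSharpOfNormal hp D L T h hQ hLQ (BC.lift (frob p R) (phiOfNormal D L T h hLQ) z) =
      BC.map (frob p R) (psiOfNormal L T h) z := by
  rw [vSharpOfNormal, LinearMap.comp_apply]
  congr 1
  exact (LinearEquiv.ofBijective _ (lift_phiOfNormal_bijective hp D L T h hQ hLQ)).symm_apply_apply z

theorem vSharpOfNormal_F (hp : IsNilpotent (p : R)) (D : Display3n p R P)
    (L T : Submodule (WittVector p R) P) (h : IsCompl L T) (hQ : D.Q = L ⊔ IV p R • T) (hLQ : L ≤ D.Q)
    (x : P) : vSharpOfNormal hp D L T h hQ hLQ (D.F x) =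
      (p : WittVector p R) • BC.tmul (frob p R) 1 x := by
  have hL : ∀ l ∈ L, vSharpOfNormal hp D L T h hQ hLQ (D.F l) =
      (p : WittVector p R) • BC.tmul (frob p R) 1 l := by
    intro l hl
    have : D.F l = BC.lift (frob p R) (phiOfNormal D L T h hLQ) (BC.tmul (frob p R) (p : WittVector p R) l) := by
      rw [BC.lift_tmul, phiOfNormal_apply_L D L T h hLQ hl]
      exact F_eq_p_smul_Vinv D ⟨l, hLQ hl⟩
    rw [this, vSharpOfNormal_lift, BC.map_tmul, psiOfNormal_apply_L L T h hl, BC.smul_tmul, mul_one]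
  have hT : ∀ t ∈ T, vSharpOfNormal hp D L T h hQ hLQ (D.F t) =
      (p : WittVector p R) • BC.tmul (frob p R) 1 t := by
    intro t ht
    have : D.F t = BC.lift (frob p R) (phiOfNormal D L T h hLQ) (BC.tmul (frob p R) 1 t) := by
      rw [BC.lift_tmul, one_smul, phiOfNormal_apply_T D L T h hLQ ht]
    rw [this, vSharpOfNormal_lift, BC.map_tmul, psiOfNormal_apply_T L T h ht, ← BC.tmul_apply_eq, map_natCast,
      BC.smul_tmul, mul_one]
  have hx := Submodule.projection_add_projection_eq_self h x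
  have h1 := hL _ (Submodule.projection_apply_mem h x)
  have h2 := hT _ (Submodule.projection_apply_mem h.symm x)
  rw [← hx, map_add, map_add, h1, h2, BC.tmul_add, smul_add]

theorem vSharpOfNormal_Vinv (hp : IsNilpotent (p : R)) (D : Display3n p R P)
    (L T : Submodule (WittVector p R) P) (h : IsCompl L T) (hQ : D.Q = L ⊔ IV p R • T) (hLQ : L ≤ D.Q)
    (y : D.Q) : vSharpOfNormal hp D L T h hQ hLQ (D.Vinv y) = BC.tmul (frob p R) 1 (y : P) := by
  have key : ∀ z : P, z ∈ L ⊔ IV p R • T → ∃ hz : z ∈ D.Q,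
      vSharpOfNormal hp D L T h hQ hLQ (D.Vinv ⟨z, hz⟩) = BC.tmul (frob p R) 1 z := by
    have hadd : ∀ z₁ z₂ : P, (∃ hz : z₁ ∈ D.Q,
        vSharpOfNormal hp D L T h hQ hLQ (D.Vinv ⟨z₁, hz⟩) = BC.tmul (frob p R) 1 z₁) →
        (∃ hz : z₂ ∈ D.Q,
        vSharpOfNormal hp D L T h hQ hLQ (D.Vinv ⟨z₂, hz⟩) = BC.tmul (frob p R) 1 z₂) →
        ∃ hz : z₁ + z₂ ∈ D.Q,
        vSharpOfNormal hp D L T h hQ hLQ (D.Vinv ⟨z₁ + z₂, hz⟩) = BC.tmul (frob p R) 1 (z₁ + z₂) := by
      rintro z₁ z₂ ⟨h₁, H₁⟩ ⟨h₂, H₂⟩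
      refine ⟨D.Q.add_mem h₁ h₂, ?_⟩
      have : (⟨z₁ + z₂, D.Q.add_mem h₁ h₂⟩ : D.Q) = ⟨z₁, h₁⟩ + ⟨z₂, h₂⟩ := rfl
      rw [this, map_add, map_add, H₁, H₂, BC.tmul_add]
    intro z hz
    obtain ⟨l, hl, z', hz', rfl⟩ := Submodule.mem_sup.mp hz
    apply hadd
    · refine ⟨hLQ hl, ?_⟩
      have : D.Vinv ⟨l, hLQ hl⟩ =
          BC.lift (frob p R) (phiOfNormal D L T h hLQ) (BC.tmul (frob p R) 1 l) := by
        rw [BC.lift_tmul, one_smul, phiOfNormal_apply_L D L T h hLQ hl]
      rw [this, vSharpOfNormal_lift, BC.map_tmul, psiOfNormal_apply_L L T h hl]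
    · refine Submodule.smul_induction_on hz' ?_ ?_
      · intro r hr t ht
        obtain ⟨a, rfl⟩ := (mem_IV_iff r).mp hr
        refine ⟨D.IV_smul_le (Submodule.smul_mem_smul (verschiebung_mem_IV p R a) Submodule.mem_top), ?_⟩
        have : D.Vinv ⟨WittVector.verschiebung a • t,
            D.IV_smul_le (Submodule.smul_mem_smul (verschiebung_mem_IV p R a) Submodule.mem_top)⟩ =
            BC.lift (frob p R) (phiOfNormal D L T h hLQ) (BC.tmul (frob p R) a t) := by
          rw [BC.lift_tmul, phiOfNormal_apply_T D L T h hLQ ht]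
          exact D.Vinv_verschiebung_smul a t
        rw [this, vSharpOfNormal_lift, BC.map_tmul, psiOfNormal_apply_T L T h ht, ← BC.tmul_mul_apply,
          ← BC.tmul_apply_eq, map_natCast]
        congr 1
        change a * (p : WittVector p R) = WittVector.frobenius (WittVector.verschiebung a)
        rw [WittVector.frobenius_verschiebung]
      · intro z₁ z₂ h₁ h₂
        exact hadd z₁ z₂ h₁ h₂
  obtain ⟨hz, H⟩ := key (y : P) (hQ ▸ y.2)
  exact H

theorem isVSharp_vSharpOfNormal (hp : IsNilpotent (p : R)) (D : Display3n p R P)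
    (L T : Submodule (WittVector p R) P) (h : IsCompl L T) (hQ : D.Q = L ⊔ IV p R • T) (hLQ : L ≤ D.Q) :
    IsVSharp D (vSharpOfNormal hp D L T h hQ hLQ) where
  app_smul_F w x := by
    rw [map_smul, vSharpOfNormal_F, smul_comm, BC.smul_tmul, mul_one]
  app_smul_Vinv w y := by
    rw [map_smul, vSharpOfNormal_Vinv, BC.smul_tmul, mul_one]

theorem existsUnique_vSharp (hp : IsNilpotent (p : R)) (D : Display3n p R P) :
    ∃! Vs : P →ₗ[WittVector p R] BC (frob p R) P, IsVSharp D Vs := by
  obtain ⟨L, T, h, hQ⟩ := D.exists_normal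
  have hLQ : L ≤ D.Q := hQ ▸ le_sup_left
  refine ⟨vSharpOfNormal hp D L T h hQ hLQ, isVSharp_vSharpOfNormal hp D L T h hQ hLQ, ?_⟩
  intro Vs hVs
  apply linearMap_ext_Vinv D
  intro y
  have h1 := hVs.app_smul_Vinv 1 y
  have h2 := (isVSharp_vSharpOfNormal hp D L T h hQ hLQ).app_smul_Vinv 1 y
  rw [one_smul] at h1 h2
  rw [h1, h2]

end Witt

end Groth.Agent.H8.Disp
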