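import Mathlib
import Groth.Agent.Lib.Helper8.Disp.BCBasis
import Groth.Agent.Lib.Helper8.Disp.VSharpExists
import Groth.Agent.Lib.Helper8.Disp.FrobPrime

/-! The matrix criterion for the nilpotence condition of a display. -/

set_option autoImplicit false

universe u v w

namespace Groth.Agent.H8.Disp

open Dieu W4c1extbt610

section Coeff

variable {p : ℕ} [Fact p.Prime] {R : Type u} [CommRing R]
variable {P : Type v} [AddCommGroup P] [Module (WittVector p R) P]
variable {ι : Type w} [Fintype ι] [DecidableEq ι] (e : Module.Basis ι (WittVector p R) P)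

/-- The coefficient matrices of the iterates of `V^#`. -/
noncomputable def coeffMat (C₀ : Matrix ι ι (WittVector p R)) : ℕ → Matrix ι ι (WittVector p R)
  | 0 => C₀
  | n + 1 => (coeffMat C₀ n).map (frob p R) * C₀

theorem vSharpPow_basis (Vs : P →ₗ[WittVector p R] BC (frob p R) P) (C₀ : Matrix ι ι (WittVector p R))
    (hVs : ∀ i, Vs (e i) = ∑ j, C₀ j i • BC.tmul (frob p R) 1 (e j)) (n : ℕ) (i : ι) :
    vSharpPow Vs n (e i) = ∑ k, coeffMat C₀ n k i • BC.tmul ((frob p R) ^ (n + 1)) 1 (e k) := by
  induction n generalizing i with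
  | zero =>
    rw [vSharpPow_zero_apply, hVs, map_sum]
    refine Finset.sum_congr rfl fun j _ => ?_
    rw [map_smul, BC.castHom_tmul]
    rfl
  | succ n ih =>
    rw [vSharpPow_succ_apply, hVs, map_sum, map_sum, map_sum]
    have h1 : ∀ j, BC.castHom (comp_pow_eq_pow_succ (frob p R) (n + 1))
        (BC.lift (frob p R) (BC.push ((frob p R) ^ (n + 1)) (frob p R))
          (BC.map (frob p R) (vSharpPow Vs n) (C₀ j i • BC.tmul (frob p R) 1 (e j)))) =
        ∑ k, (C₀ j i * frob p R (coeffMat C₀ n k j)) •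
          BC.tmul ((frob p R) ^ (n + 1 + 1)) 1 (e k) := by
      intro j
      rw [map_smul, map_smul, map_smul, BC.map_tmul, BC.lift_tmul, one_smul, ih, map_sum, map_sum,
        Finset.smul_sum]
      refine Finset.sum_congr rfl fun k _ => ?_
      rw [map_smulₛₗ, map_smul, BC.push_tmul, BC.castHom_tmul, smul_smul, map_one]
    simp_rw [h1]
    rw [Finset.sum_comm]
    refine Finset.sum_congr rfl fun k _ => ?_
    rw [← Finset.sum_smul]
    congr 1
    rw [coeffMat, Matrix.mul_apply]
    refine Finset.sum_congr rfl fun j _ => ?_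
    rw [Matrix.map_apply, mul_comm]

theorem isVNilpotent_iff (Vs : P →ₗ[WittVector p R] BC (frob p R) P) (C₀ : Matrix ι ι (WittVector p R))
    (hVs : ∀ i, Vs (e i) = ∑ j, C₀ j i • BC.tmul (frob p R) 1 (e j)) :
    IsVNilpotent Vs ↔ ∃ n : ℕ, ∀ k i,
      coeffMat C₀ n k i ∈ IV p R ⊔ Ideal.span {(p : WittVector p R)} := by
  constructor
  · rintro ⟨n, hn⟩
    refine ⟨n, fun k i => ?_⟩
    have := (mem_smul_top_iff ((frob p R) ^ (n + 1)) e _ _).mp (hn (e i)) k
    rw [vSharpPow_basis e Vs C₀ hVs, coordFun_sum_smul] at this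
    exact this
  · rintro ⟨n, hn⟩
    refine ⟨n, fun x => ?_⟩
    rw [← e.sum_repr x, map_sum]
    refine Submodule.sum_mem _ fun i _ => ?_
    rw [map_smul]
    refine Submodule.smul_mem _ _ ?_
    rw [mem_smul_top_iff ((frob p R) ^ (n + 1)) e]
    intro k
    rw [vSharpPow_basis e Vs C₀ hVs, coordFun_sum_smul]
    exact hn k i

end Coeff

section Rho

variable (p : ℕ) [Fact p.Prime] (R : Type u) [CommRing R]

/-- Reduction `W(R) → R/pR`. -/
noncomputable def rho : WittVector p R →+* R ⧸ Ideal.span {(p : R)} :=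
  (Ideal.Quotient.mk (Ideal.span {(p : R)})).comp WittVector.constantCoeff

variable {p R}

theorem rho_apply (w : WittVector p R) :
    rho p R w = Ideal.Quotient.mk (Ideal.span {(p : R)}) (WittVector.constantCoeff w) := rfl

theorem natCast_p_quot : ((p : ℕ) : R ⧸ Ideal.span {(p : R)}) = 0 := by
  rw [← map_natCast (Ideal.Quotient.mk (Ideal.span {(p : R)})), Ideal.Quotient.eq_zero_iff_mem]
  exact Ideal.mem_span_singleton_self _

theorem rho_p : rho p R (p : WittVector p R) = 0 := by
  rw [map_natCast]; exact natCast_p_quot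

theorem rho_frob (w : WittVector p R) : rho p R (frob p R w) = rho p R w ^ p := by
  obtain ⟨c, hc⟩ := exists_coeff_zero_frobenius w
  rw [rho_apply, rho_apply]
  change Ideal.Quotient.mk _ ((WittVector.frobenius w).coeff 0) = _
  rw [hc, map_add, map_mul, map_natCast, natCast_p_quot, zero_mul, add_zero, map_pow]
  rfl

theorem ker_rho : RingHom.ker (rho p R) = IV p R ⊔ Ideal.span {(p : WittVector p R)} := by
  apply le_antisymm
  · intro w hw
    rw [RingHom.mem_ker, rho_apply, Ideal.Quotient.eq_zero_iff_mem, Ideal.mem_span_singleton] at hw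
    obtain ⟨r, hr⟩ := hw
    have h1 : w - (p : WittVector p R) * WittVector.teichmuller p r ∈ IV p R := by
      apply sub_mem_IV_of_coeff_zero_eq
      change WittVector.constantCoeff w = WittVector.constantCoeff
        ((p : WittVector p R) * WittVector.teichmuller p r)
      rw [map_mul, map_natCast, hr]
      congr 1
    have : w = (w - (p : WittVector p R) * WittVector.teichmuller p r) +
        (p : WittVector p R) * WittVector.teichmuller p r := by ring
    rw [this]
    exact Submodule.add_mem_sup h1 (Ideal.mul_mem_right _ _ (Ideal.mem_span_singleton_self _))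
  · rw [sup_le_iff]
    constructor
    · intro w hw
      obtain ⟨w', rfl⟩ := (mem_IV_iff w).mp hw
      rw [RingHom.mem_ker, rho_apply]
      have : WittVector.constantCoeff (WittVector.verschiebung w') = 0 :=
        WittVector.verschiebung_coeff_zero w'
      rw [this, map_zero]
    · rw [Ideal.span_le, Set.singleton_subset_iff]
      exact rho_p

/-- The `p`-power map on `R/pR` as a ring homomorphism. -/
noncomputable def frobK (p : ℕ) [hp : Fact p.Prime] (R : Type u) [CommRing R] :
    (R ⧸ Ideal.span {(p : R)}) →+* (R ⧸ Ideal.span {(p : R)}) where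
  toFun x := x ^ p
  map_one' := one_pow p
  map_mul' x y := mul_pow x y p
  map_zero' := zero_pow hp.out.ne_zero
  map_add' x y := by
    obtain ⟨r, hr⟩ := (Commute.all x y).exists_add_pow_prime_eq hp.out
    rw [hr, natCast_p_quot]
    ring

theorem frobK_apply (x : R ⧸ Ideal.span {(p : R)}) : frobK p R x = x ^ p := rfl

theorem frobK_pow_apply (i : ℕ) (x : R ⧸ Ideal.span {(p : R)}) : ((frobK p R) ^ i) x = x ^ p ^ i := by
  induction i generalizing x with
  | zero => simp
  | succ i ih =>
    rw [pow_succ, RingHom.mul_def, RingHom.comp_apply, ih, frobK_apply, ← pow_mul, pow_succ']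

theorem rho_comp_frob : (rho p R).comp (frob p R) = (frobK p R).comp (rho p R) :=
  RingHom.ext fun w => rho_frob w

end Rho

section MatK

variable {K : Type*} [CommRing K] (fr : K →+* K)
variable {ιT ιL : Type*} [Fintype ιT] [Fintype ιL] [DecidableEq ιT] [DecidableEq ιL]

/-- `Π_0 = B`, `Π_{n+1} = Π_n^{(fr)} * B`. -/
def piMat {ι : Type*} [Fintype ι] (B : Matrix ι ι K) : ℕ → Matrix ι ι K
  | 0 => B
  | n + 1 => (piMat B n).map fr * B

theorem piMat_fromBlocks (X : Matrix ιL ιT K) (B : Matrix ιL ιL K) (n : ℕ) :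
    ∃ Y : Matrix ιL ιT K, piMat fr (Matrix.fromBlocks (0 : Matrix ιT ιT K) 0 X B) n =
      Matrix.fromBlocks 0 0 Y (piMat fr B n) := by
  induction n with
  | zero => exact ⟨X, rfl⟩
  | succ n ih =>
    obtain ⟨Y, hY⟩ := ih
    refine ⟨(piMat fr B n).map fr * X, ?_⟩
    rw [piMat, hY, Matrix.fromBlocks_map, Matrix.fromBlocks_multiply]
    simp [piMat]

theorem piMat_fromBlocks_succ_eq_zero (X : Matrix ιL ιT K) (B : Matrix ιL ιL K) (n : ℕ)
    (h : piMat fr B n = 0) :
    piMat fr (Matrix.fromBlocks (0 : Matrix ιT ιT K) 0 X B) (n + 1) = 0 := by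
  obtain ⟨Y, hY⟩ := piMat_fromBlocks fr X B n
  rw [piMat, hY, Matrix.fromBlocks_map, Matrix.fromBlocks_multiply, h]
  simp

/-- The list product `B^{(fr^{N-1})} ⋯ B^{(fr)} B`. -/
def listProd {ι : Type*} [Fintype ι] [DecidableEq ι] (B : Matrix ι ι K) (N : ℕ) : Matrix ι ι K :=
  ((List.range N).reverse.map fun i : ℕ => B.map (fr ^ i)).prod

theorem listProd_succ {ι : Type*} [Fintype ι] [DecidableEq ι] (B : Matrix ι ι K) (N : ℕ) :
    listProd fr B (N + 1) = B.map (fr ^ N) * listProd fr B N := by
  rw [listProd, List.range_succ, List.reverse_append, List.reverse_singleton, List.singleton_append,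
    List.map_cons, List.prod_cons]
  rfl

theorem listProd_one {ι : Type*} [Fintype ι] [DecidableEq ι] (B : Matrix ι ι K) :
    listProd fr B 1 = B := by
  rw [listProd_succ, listProd]
  simp

theorem listProd_succ_succ {ι : Type*} [Fintype ι] [DecidableEq ι] (B : Matrix ι ι K) (n : ℕ) :
    listProd fr B (n + 2) = (listProd fr B (n + 1)).map fr * B := by
  have hmap : ∀ i : ℕ, (B.map (fr ^ i)).map fr = B.map (fr ^ (i + 1)) := by
    intro i
    rw [Matrix.map_map, pow_succ']
    rfl
  induction n with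
  | zero =>
    rw [listProd_succ, listProd_one, pow_one]
  | succ n ih =>
    calc listProd fr B (n + 1 + 2) = B.map (fr ^ (n + 2)) * listProd fr B (n + 2) :=
          listProd_succ fr B (n + 2)
      _ = B.map (fr ^ (n + 2)) * ((listProd fr B (n + 1)).map fr * B) := by rw [ih]
      _ = (B.map (fr ^ (n + 1)) * listProd fr B (n + 1)).map fr * B := by
          rw [Matrix.map_mul, hmap (n + 1), mul_assoc]
      _ = (listProd fr B (n + 1 + 1)).map fr * B := by rw [← listProd_succ]

theorem listProd_eq_piMat {ι : Type*} [Fintype ι] [DecidableEq ι] (B : Matrix ι ι K) (n : ℕ) :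
    listProd fr B (n + 1) = piMat fr B n := by
  induction n with
  | zero => exact listProd_one fr B
  | succ n ih => rw [listProd_succ_succ, ih, piMat]

end MatK

section Display

variable {p : ℕ} [Fact p.Prime] {R : Type u} [CommRing R]
variable {P : Type v} [AddCommGroup P] [Module (WittVector p R) P]
variable {ιT ιL : Type w} [Fintype ιT] [Fintype ιL] [DecidableEq ιT] [DecidableEq ιL]

/-- The basis of `P = T ⊕ L` obtained from bases of `T` and `L`. -/
noncomputable def basisTL {L T : Submodule (WittVector p R) P} (hLT : IsCompl L T)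
    (bT : Module.Basis ιT (WittVector p R) T) (bL : Module.Basis ιL (WittVector p R) L) :
    Module.Basis (ιT ⊕ ιL) (WittVector p R) P :=
  (bT.prod bL).map (Submodule.prodEquivOfIsCompl T L hLT.symm)

theorem basisTL_apply {L T : Submodule (WittVector p R) P} (hLT : IsCompl L T)
    (bT : Module.Basis ιT (WittVector p R) T) (bL : Module.Basis ιL (WittVector p R) L)
    (i : ιT ⊕ ιL) :
    basisTL hLT bT bL i = Sum.elim (fun a : ιT => (bT a : P)) (fun a : ιL => (bL a : P)) i := by
  rcases i with j | k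
  · simp [basisTL]
  · simp [basisTL]

theorem coeffMat_map_rho {ι : Type w} [Fintype ι] [DecidableEq ι]
    (C₀ : Matrix ι ι (WittVector p R)) (n : ℕ) :
    (coeffMat C₀ n).map (rho p R) = piMat (frobK p R) (C₀.map (rho p R)) n := by
  induction n with
  | zero => rfl
  | succ n ih =>
    rw [coeffMat, piMat, Matrix.map_mul, Matrix.map_map, ← ih, Matrix.map_map]
    congr 2
    funext w
    exact rho_frob w

theorem matrix_criterion (hp : IsNilpotent (p : R)) (D : Display3n p R P)
    (L T : Submodule (WittVector p R) P) (hLT : IsCompl L T) (hLQ : L ≤ D.Q)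
    (bT : Module.Basis ιT (WittVector p R) T) (bL : Module.Basis ιL (WittVector p R) L)
    (α β : Matrix (ιT ⊕ ιL) (ιT ⊕ ιL) (WittVector p R)) (hαβ : α * β = 1)
    (hF : ∀ j : ιT, D.F (bT j : P) =
      Finset.univ.sum fun i : ιT ⊕ ιL => α i (Sum.inl j) •
        Sum.elim (fun a : ιT => (bT a : P)) (fun a : ιL => (bL a : P)) i)
    (hV : ∀ k : ιL, D.Vinv ⟨(bL k : P), hLQ (bL k).2⟩ =
      Finset.univ.sum fun i : ιT ⊕ ιL => α i (Sum.inr k) •
        Sum.elim (fun a : ιT => (bT a : P)) (fun a : ιL => (bL a : P)) i) :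
    IsDisplay D ↔
      ∃ N : ℕ, 0 < N ∧
        (((List.range N).reverse.map fun i : ℕ =>
            (Matrix.of fun k l : ιL =>
                Ideal.Quotient.mk (Ideal.span {(p : R)})
                  (WittVector.constantCoeff (β (Sum.inr k) (Sum.inr l)))).map
              fun x : R ⧸ Ideal.span {(p : R)} => x ^ p ^ i).prod
          = 0) := by
  obtain ⟨Vs, hVs, huniq⟩ := existsUnique_vSharp hp D
  have hdisp : IsDisplay D ↔ IsVNilpotent Vs := by
    constructor
    · rintro ⟨Vs', h1, h2⟩
      rw [← huniq Vs' h1]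
      exact h2
    · intro h
      exact ⟨Vs, hVs, h⟩
  rw [hdisp]
  set e := basisTL hLT bT bL with he_def
  have he : ∀ i, e i = Sum.elim (fun a : ιT => (bT a : P)) (fun a : ιL => (bL a : P)) i :=
    basisTL_apply hLT bT bL
  let φv : ιT ⊕ ιL → P := fun j => ∑ i, α i j • e i
  let ε : ιT ⊕ ιL → WittVector p R := Sum.elim (fun _ => (p : WittVector p R)) (fun _ => 1)
  have hVsφ : ∀ j, Vs (φv j) = ε j • BC.tmul (frob p R) 1 (e j) := by
    intro j
    rcases j with j | k
    · have h1 := hVs.app_smul_F 1 (bT j : P)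
      rw [one_smul, hF j] at h1
      have h2 : φv (Sum.inl j) = ∑ i, α i (Sum.inl j) •
          Sum.elim (fun a : ιT => (bT a : P)) (fun a : ιL => (bL a : P)) i :=
        Finset.sum_congr rfl fun i _ => by rw [he]
      rw [h2, h1, he]
      rfl
    · have h1 := hVs.app_smul_Vinv 1 ⟨(bL k : P), hLQ (bL k).2⟩
      rw [one_smul, hV k] at h1
      have h2 : φv (Sum.inr k) = ∑ i, α i (Sum.inr k) •
          Sum.elim (fun a : ιT => (bT a : P)) (fun a : ιL => (bL a : P)) i :=
        Finset.sum_congr rfl fun i _ => by rw [he]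
      rw [h2, h1, he]
      change _ = (1 : WittVector p R) • _
      rw [one_smul]
      rfl
  have heφ : ∀ i, e i = ∑ j, β j i • φv j := by
    intro i
    have h1 : ∑ j, β j i • φv j = ∑ k, (α * β) k i • e k := by
      simp only [φv, Finset.smul_sum, smul_smul]
      rw [Finset.sum_comm]
      refine Finset.sum_congr rfl fun k _ => ?_
      rw [← Finset.sum_smul, Matrix.mul_apply]
      congr 1
      exact Finset.sum_congr rfl fun j _ => mul_comm _ _
    rw [h1, hαβ]
    simp [Matrix.one_apply]
  let C₀ : Matrix (ιT ⊕ ιL) (ιT ⊕ ιL) (WittVector p R) := Matrix.of fun j i => β j i * ε j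
  have hVse : ∀ i, Vs (e i) = ∑ j, C₀ j i • BC.tmul (frob p R) 1 (e j) := by
    intro i
    conv_lhs => rw [heφ i]
    rw [map_sum]
    refine Finset.sum_congr rfl fun j _ => ?_
    rw [map_smul, hVsφ, smul_smul]
    rfl
  rw [isVNilpotent_iff e Vs C₀ hVse]
  have hmem : ∀ n, (∀ k i, coeffMat C₀ n k i ∈ IV p R ⊔ Ideal.span {(p : WittVector p R)}) ↔
      piMat (frobK p R) (C₀.map (rho p R)) n = 0 := by
    intro n
    rw [← coeffMat_map_rho, ← ker_rho]
    constructor
    · intro h
      ext k i
      exact h k i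
    · intro h k i
      exact congrFun (congrFun h k) i
  simp_rw [hmem]
  set B : Matrix ιL ιL (R ⧸ Ideal.span {(p : R)}) := Matrix.of fun k l : ιL =>
    Ideal.Quotient.mk (Ideal.span {(p : R)}) (WittVector.constantCoeff (β (Sum.inr k) (Sum.inr l)))
    with hB
  let X : Matrix ιL ιT (R ⧸ Ideal.span {(p : R)}) := Matrix.of fun k j =>
    rho p R (β (Sum.inr k) (Sum.inl j))
  have hC₀ : C₀.map (rho p R) = Matrix.fromBlocks 0 0 X B := by
    ext i j
    rcases i with i | i <;> rcases j with j | j
    · simp only [C₀, ε, Matrix.map_apply, Matrix.of_apply, Sum.elim_inl, map_mul, rho_p, mul_zero,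
        Matrix.fromBlocks_apply₁₁, Matrix.zero_apply]
    · simp only [C₀, ε, Matrix.map_apply, Matrix.of_apply, Sum.elim_inl, map_mul, rho_p, mul_zero,
        Matrix.fromBlocks_apply₁₂, Matrix.zero_apply]
    · simp [C₀, ε, X]
    · simp [C₀, ε, B, rho_apply]
  rw [hC₀]
  have hlist : ∀ N, ((List.range N).reverse.map fun i : ℕ =>
      B.map fun x : R ⧸ Ideal.span {(p : R)} => x ^ p ^ i).prod = listProd (frobK p R) B N := by
    intro N
    rw [listProd]
    congr 2
    funext i
    congr 1
    funext x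
    exact (frobK_pow_apply i x).symm
  simp_rw [hlist]
  constructor
  · rintro ⟨n, hn⟩
    refine ⟨n + 1, Nat.succ_pos n, ?_⟩
    rw [listProd_eq_piMat]
    obtain ⟨Y, hY⟩ := piMat_fromBlocks (frobK p R) X B n
    rw [hY] at hn
    have := congrArg Matrix.toBlocks₂₂ hn
    rw [Matrix.toBlocks_fromBlocks₂₂] at this
    rw [this]
    rfl
  · rintro ⟨N, hN, h⟩
    obtain ⟨n, rfl⟩ : ∃ n, N = n + 1 := ⟨N - 1, by omega⟩
    rw [listProd_eq_piMat] at h
    exact ⟨n + 1, piMat_fromBlocks_succ_eq_zero (frobK p R) X B n h⟩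

end Display

end Groth.Agent.H8.Disp
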