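import Mathlib
import Groth.Agent.Lib.Helper8.Disp.Nilp

set_option autoImplicit false

universe u v w

namespace Groth.Agent.H8.Disp

open Dieu W4c1extbt610

section General

variable {A B : Type u} [CommRing A] [CommRing B]

theorem mem_span_singleton_smul_top_iff {M : Type v} [AddCommGroup M] [Module A M] (r : A) (m : M) :
    m ∈ Ideal.span {r} • (⊤ : Submodule A M) ↔ ∃ y : M, r • y = m := by
  rw [Submodule.ideal_span_singleton_smul, Submodule.mem_smul_pointwise_iff_exists]
  simp only [Submodule.mem_top, true_and]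

theorem mem_span_singleton_pow_smul_top_iff {M : Type v} [AddCommGroup M] [Module A M] (r : A) (e : ℕ) (m : M) :
    m ∈ (Ideal.span {r} ^ e) • (⊤ : Submodule A M) ↔ ∃ y : M, r ^ e • y = m := by
  rw [Ideal.span_singleton_pow, mem_span_singleton_smul_top_iff]

/-- the bilinear map underlying `unTwist`. -/
noncomputable def unTwistBil (τ τinv : A →+* A) (h : ∀ a, τinv (τ a) = a) (M : Type v) [AddCommGroup M]
    [Module A M] : Res τ →ₗ[A] M →ₗ[A] M where
  toFun := fun t => (τinv t.val) • (LinearMap.id : M →ₗ[A] M)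
  map_add' := fun s t => by rw [Res.val_add, map_add, add_smul]
  map_smul' := fun a t => by
    rw [Res.val_smul, map_mul, RingHom.id_apply, mul_smul, h]

/-- The inverse of `x ↦ 1 ⊗ x` for an automorphism `τ`: `b ⊗ x ↦ τ⁻¹ b • x`, as an additive map. -/
noncomputable def unTwist (τ τinv : A →+* A) (h : ∀ a, τinv (τ a) = a) (M : Type v) [AddCommGroup M]
    [Module A M] : BC τ M →+ M :=
  (TensorProduct.lift (unTwistBil τ τinv h M)).toAddMonoidHom

theorem unTwist_tmul (τ τinv : A →+* A) (h : ∀ a, τinv (τ a) = a) {M : Type v} [AddCommGroup M] [Module A M]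
    (b : A) (x : M) : unTwist τ τinv h M (BC.tmul τ b x) = τinv b • x := by
  change TensorProduct.lift (unTwistBil τ τinv h M) ((Res.mk τ b) ⊗ₜ[A] x) = _
  rw [TensorProduct.lift.tmul]
  rfl

theorem unTwist_smul (τ τinv : A →+* A) (h : ∀ a, τinv (τ a) = a) {M : Type v} [AddCommGroup M] [Module A M]
    (c : A) (z : BC τ M) : unTwist τ τinv h M (c • z) = τinv c • unTwist τ τinv h M z := by
  induction z using BC.induction_on τ with
  | zero => simp only [smul_zero, map_zero]
  | tmul b x => rw [BC.smul_tmul, unTwist_tmul, unTwist_tmul, map_mul, mul_smul]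
  | add z₁ z₂ h₁ h₂ => simp only [smul_add, map_add, h₁, h₂]

end General

section Perfect

variable {p : ℕ} [Fact p.Prime] {k : Type u} [CommRing k] [CharP k p] [PerfectRing k p]
variable {M : Type v} [AddCommGroup M] [Module (WittVector p k) M]

/-- the inverse of Frobenius on `W(k)` as a ring hom. -/
noncomputable abbrev frobInv (p : ℕ) [Fact p.Prime] (k : Type u) [CommRing k] [CharP k p] [PerfectRing k p] :
    WittVector p k →+* WittVector p k :=
  ((WittVector.frobeniusEquiv p k).symm : WittVector p k →+* WittVector p k)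

theorem frobInv_frob (a : WittVector p k) : frobInv p k (frob p k a) = a :=
  (WittVector.frobeniusEquiv p k).symm_apply_apply a

theorem frob_frobInv (a : WittVector p k) : frob p k (frobInv p k a) = a :=
  (WittVector.frobeniusEquiv p k).apply_symm_apply a

theorem frobInv_pow_frob_pow (n : ℕ) (a : WittVector p k) :
    ((frobInv p k) ^ n) (((frob p k) ^ n) a) = a := by
  induction n generalizing a with
  | zero => rfl
  | succ n ih =>
    rw [pow_succ (frobInv p k), pow_succ' (frob p k)]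
    change ((frobInv p k) ^ n) (frobInv p k (frob p k (((frob p k) ^ n) a))) = a
    rw [frobInv_frob, ih]

theorem IV_sup_span_eq : IV p k ⊔ Ideal.span {(p : WittVector p k)} = Ideal.span {(p : WittVector p k)} := by
  rw [sup_eq_right, IV, Ideal.span_le]
  rintro _ ⟨w, rfl⟩
  have : WittVector.verschiebung w = frobInv p k w * p := by
    rw [← WittVector.verschiebung_frobenius]
    congr 1
    exact (frob_frobInv w).symm
  rw [this]
  exact Ideal.mul_mem_left _ _ (Ideal.subset_span rfl)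

/-- `V^# x = 1 ⊗ V x`. -/
noncomputable def vSharpOfDieu (Dm : DieuMod p k M) : M →ₗ[WittVector p k] BC (frob p k) M where
  toFun x := BC.tmul (frob p k) 1 (Dm.V x)
  map_add' x y := by rw [map_add, BC.tmul_add]
  map_smul' w x := by
    rw [Dm.V.map_smulₛₗ, ← BC.tmul_apply_eq, RingHom.id_apply, BC.tmul_eq_smul_tmul_one]
    congr 1
    exact frob_frobInv w

theorem vSharpOfDieu_apply (Dm : DieuMod p k M) (x : M) :
    vSharpOfDieu Dm x = BC.tmul (frob p k) 1 (Dm.V x) := rfl

theorem vSharpPow_vSharpOfDieu (Dm : DieuMod p k M) (n : ℕ) (x : M) :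
    vSharpPow (vSharpOfDieu Dm) n x = BC.tmul ((frob p k) ^ (n + 1)) 1 ((⇑Dm.V)^[n + 1] x) := by
  induction n generalizing x with
  | zero =>
    rw [vSharpPow_zero_apply, vSharpOfDieu_apply, BC.castHom_tmul]
    rfl
  | succ n ih =>
    rw [vSharpPow_succ_apply, vSharpOfDieu_apply, BC.map_tmul, ih, BC.lift_tmul, BC.push_tmul,
      one_smul, BC.castHom_tmul, map_one, Function.iterate_succ_apply (⇑Dm.V) (n + 1)]

theorem isVSharp_vSharpOfDieu (Dm : DieuMod p k M) (D : Display3n p k M) (hF : D.F = Dm.F)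
    (hQ : ∀ x : M, x ∈ D.Q ↔ x ∈ Set.range Dm.V)
    (hV : ∀ (m : M) (h : Dm.V m ∈ D.Q), D.Vinv ⟨Dm.V m, h⟩ = m) : IsVSharp D (vSharpOfDieu Dm) where
  app_smul_F w x := by
    rw [map_smul, vSharpOfDieu_apply, hF, Dm.V_F, ← BC.tmul_apply_eq (frob p k) (p : WittVector p k) x,
      map_natCast, BC.smul_tmul, BC.smul_tmul, mul_comm]
  app_smul_Vinv w y := by
    obtain ⟨m, hm⟩ := (hQ y).mp y.2
    have hy : y = ⟨Dm.V m, hm ▸ y.2⟩ := Subtype.ext hm.symm
    rw [hy, hV, map_smul, vSharpOfDieu_apply, ← BC.tmul_eq_smul_tmul_one]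

theorem eq_vSharpOfDieu (Dm : DieuMod p k M) (D : Display3n p k M) (hF : D.F = Dm.F)
    (hQ : ∀ x : M, x ∈ D.Q ↔ x ∈ Set.range Dm.V)
    (hV : ∀ (m : M) (h : Dm.V m ∈ D.Q), D.Vinv ⟨Dm.V m, h⟩ = m)
    (Vs : M →ₗ[WittVector p k] BC (frob p k) M) (hVs : IsVSharp D Vs) : Vs = vSharpOfDieu Dm := by
  apply linearMap_ext_Vinv D
  intro y
  have h1 := hVs.app_smul_Vinv 1 y
  have h2 := (isVSharp_vSharpOfDieu Dm D hF hQ hV).app_smul_Vinv 1 y
  rw [one_smul] at h1 h2
  rw [h1, h2]

theorem tmul_one_mem_iff (n : ℕ) (y : M) :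
    BC.tmul ((frob p k) ^ n) 1 y ∈ Ideal.span {(p : WittVector p k)} •
        (⊤ : Submodule (WittVector p k) (BC ((frob p k) ^ n) M)) ↔
      y ∈ Ideal.span {(p : WittVector p k)} • (⊤ : Submodule (WittVector p k) M) := by
  rw [mem_span_singleton_smul_top_iff, mem_span_singleton_smul_top_iff]
  constructor
  · rintro ⟨z, hz⟩
    refine ⟨unTwist ((frob p k) ^ n) ((frobInv p k) ^ n) (frobInv_pow_frob_pow n) M z, ?_⟩
    have := congrArg (unTwist ((frob p k) ^ n) ((frobInv p k) ^ n) (frobInv_pow_frob_pow n) M) hz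
    rw [unTwist_smul, unTwist_tmul, map_natCast, map_one, one_smul] at this
    exact this
  · rintro ⟨y', rfl⟩
    refine ⟨BC.tmul ((frob p k) ^ n) 1 y', ?_⟩
    rw [← BC.tmul_apply_eq, map_natCast, BC.smul_tmul, mul_one]

theorem V_p_smul (Dm : DieuMod p k M) (x : M) : Dm.V ((p : WittVector p k) • x) = (p : WittVector p k) • Dm.V x := by
  rw [Dm.V.map_smulₛₗ]
  congr 1
  exact map_natCast (frobInv p k) p

theorem V_iterate_p_pow_smul (Dm : DieuMod p k M) (n e : ℕ) (x : M) :
    (⇑Dm.V)^[n] ((p : WittVector p k) ^ e • x) = (p : WittVector p k) ^ e • (⇑Dm.V)^[n] x := by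
  induction n generalizing x with
  | zero => rfl
  | succ n ih =>
    rw [Function.iterate_succ_apply, Function.iterate_succ_apply]
    have : Dm.V ((p : WittVector p k) ^ e • x) = (p : WittVector p k) ^ e • Dm.V x := by
      rw [Dm.V.map_smulₛₗ]
      congr 1
      rw [map_pow]
      congr 1
      exact map_natCast (frobInv p k) p
    rw [this, ih]

theorem isVNilpotent_vSharpOfDieu_iff (Dm : DieuMod p k M) :
    IsVNilpotent (vSharpOfDieu Dm) ↔ Dm.VTopNilp := by
  have key : IsVNilpotent (vSharpOfDieu Dm) ↔ ∃ n : ℕ, ∀ x : M, (⇑Dm.V)^[n + 1] x ∈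
      Ideal.span {(p : WittVector p k)} • (⊤ : Submodule (WittVector p k) M) := by
    unfold IsVNilpotent
    refine exists_congr fun n => forall_congr' fun x => ?_
    rw [IV_sup_span_eq, vSharpPow_vSharpOfDieu]
    exact tmul_one_mem_iff (n + 1) _
  rw [key]
  constructor
  · rintro ⟨n, hn⟩ e
    refine ⟨(n + 1) * e, ?_⟩
    induction e with
    | zero =>
      intro m
      rw [pow_zero, Ideal.one_eq_top, Submodule.top_smul]
      exact Submodule.mem_top
    | succ e ih =>
      intro m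
      rw [Nat.mul_succ, Function.iterate_add_apply]
      obtain ⟨y, hy⟩ := (mem_span_singleton_smul_top_iff _ _).mp (hn m)
      rw [← hy, ← pow_one (p : WittVector p k), V_iterate_p_pow_smul, pow_one]
      obtain ⟨y', hy'⟩ := (mem_span_singleton_pow_smul_top_iff _ _ _).mp (ih y)
      rw [mem_span_singleton_pow_smul_top_iff]
      refine ⟨y', ?_⟩
      rw [← hy', pow_succ', mul_smul]
  · intro h
    obtain ⟨n, hn⟩ := h 1
    refine ⟨n, fun x => ?_⟩
    rw [Function.iterate_succ_apply]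
    have := hn (Dm.V x)
    rwa [pow_one] at this

theorem isDisplay_iff_vTopNilp (Dm : DieuMod p k M) (D : Display3n p k M) (hF : D.F = Dm.F)
    (hQ : ∀ x : M, x ∈ D.Q ↔ x ∈ Set.range Dm.V)
    (hV : ∀ (m : M) (h : Dm.V m ∈ D.Q), D.Vinv ⟨Dm.V m, h⟩ = m) :
    IsDisplay D ↔ Dm.VTopNilp := by
  rw [← isVNilpotent_vSharpOfDieu_iff]
  constructor
  · rintro ⟨Vs, h1, h2⟩
    rwa [eq_vSharpOfDieu Dm D hF hQ hV Vs h1] at h2
  · intro h
    exact ⟨vSharpOfDieu Dm, isVSharp_vSharpOfDieu Dm D hF hQ hV, h⟩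

end Perfect

end Groth.Agent.H8.Disp
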